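import Cfsg.Agent.Lib.G2Cent.Facts
import Cfsg.Agent.Lib.G2Type.Fusion

/-!
The centralizer of the central involution: fusion of involutions, and a homomorphism of index two.
-/

set_option autoImplicit false
set_option linter.unusedSectionVars false

open Subgroup

namespace Cfsg.Agent.G2Cent

open Cfsg.Agent.G2Type Cfsg.Agent.G2Type.Mdl

variable {G : Type*} [Group G] [Finite G] {k : ℕ} [NeZero k]
  (ι : Mdl (4 * k) →* G) (S : Sylow 2 G)

/-- The centralizer. -/
abbrev cz : Subgroup G := centralizer ({ι (zE k)} : Set G)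

theorem mem_cz (x : Mdl (4 * k)) : ι x ∈ cz ι := by
  rw [mem_centralizer_singleton_iff, ← map_mul, ← map_mul, zE_central]

/-- The model inside the centralizer. -/
def ιC : Mdl (4 * k) →* cz ι := ι.codRestrict _ (mem_cz ι)

@[simp] theorem coe_ιC (x : Mdl (4 * k)) : ((ιC ι x : cz ι) : G) = ι x := rfl

/-- The parity. -/
def parHom (k : ℕ) : Mdl (4 * k) →* Multiplicative (ZMod 2) where
  toFun x := Multiplicative.ofAdd (par k x.p)
  map_one' := by simp
  map_mul' := by
    rintro ⟨p, q, i, j⟩ ⟨p', q', i', j'⟩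
    show Multiplicative.ofAdd (par k (p + act1 i j p' q')) = _
    rw [← ofAdd_add]
    congr 1
    cases i <;> simp [act1]

omit [NeZero k] in
theorem parHom_apply {x : Mdl (4 * k)} :
    parHom k x = Multiplicative.ofAdd (par k x.p) := rfl

omit [NeZero k] in
theorem parHom_cE : parHom k (Facts.cE k) = Multiplicative.ofAdd 1 := by
  simp [parHom_apply, Facts.cE]

theorem mul_self_two : ∀ a : Multiplicative (ZMod 2), a * a = 1 := by decide

variable (hr : ι.range = (S : Subgroup G)) (hi : Function.Injective ι)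
  (h1 : ∀ x y : G, orderOf x = 2 → orderOf y = 2 → IsConj x y)
include hr hi h1

theorem cj_z {w : Mdl (4 * k)} (hw1 : w ≠ 1) (hw : w * w = 1) : Fusion.Cj ι w (zE k) :=
  h1 _ _ (Fusion.orderOf_two ι hi hw1 hw) (Fusion.orderOf_two ι hi zE_ne zE_sq)

/-- An involution with `z` a commutator in its centralizer goes to `z` while `z` goes to `e`. -/
theorem swap_to_e {w : Mdl (4 * k)} (hw1 : w ≠ 1) (hw : w * w = 1) (hwz : w ≠ zE k)
    (hcomm : ∃ a b : Mdl (4 * k), a * w = w * a ∧ b * w = w * b ∧ zE k = a * b * a⁻¹ * b⁻¹) :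
    ∃ g : G, g * ι w * g⁻¹ = ι (zE k) ∧ g * ι (zE k) * g⁻¹ = ι (eE k) := by
  obtain ⟨g, φ, hg, hφ⟩ := Fusion.to_z ι S hr (cj_z ι S hr hi h1 hw1 hw)
  obtain ⟨a, b, ha, hb, hz⟩ := hcomm
  have hzc := hφ (zE k) (zE_central w)
  have e : φ (zE k) = φ a * φ b * (φ a)⁻¹ * (φ b)⁻¹ := hi (by
    rw [← hzc, hz, map_mul ι (φ a * φ b * (φ a)⁻¹), map_mul ι (φ a * φ b), map_mul ι (φ a),
      map_inv, map_inv, ← hφ a ha, ← hφ b hb]
    simp [mul_assoc])
  have hne : φ (zE k) ≠ zE k := fun h => by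
    rw [h] at hzc
    exact hwz (hi (mul_left_cancel (mul_right_cancel (hg.trans hzc.symm))))
  have hne1 : φ (zE k) ≠ 1 := fun h => by
    rw [h, map_one, conj_eq_one_iff] at hzc
    exact zE_ne (hi (hzc.trans (map_one ι).symm))
  have h2 : φ (zE k) * φ (zE k) = 1 := hi (by
    rw [map_mul, ← hzc, map_one, ← map_one (MulAut.conj g), ← map_one ι, ← zE_sq (k := k), map_mul ι]
    simp [mul_assoc])
  have hc := commutator_even (φ a) (φ b)
  rw [← e] at hc
  rcases abelian_involution hc.1 hc.2.1 h2 hne1 with h | h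
  · exact absurd h hne
  obtain ⟨s, hs⟩ := isConj_iff.1 h
  refine ⟨ι s * g, ?_, ?_⟩
  · rw [show ι s * g * ι w * (ι s * g)⁻¹ = ι s * (g * ι w * g⁻¹) * (ι s)⁻¹ by group, hg, ← map_inv,
      ← map_mul, ← map_mul, ← zE_central, mul_inv_cancel_right]
  · rw [show ι s * g * ι (zE k) * (ι s * g)⁻¹ = ι s * (g * ι (zE k) * g⁻¹) * (ι s)⁻¹ by group, hzc,
      ← map_inv, ← map_mul, ← map_mul, hs]

theorem swap_eE : ∃ g : G, g * ι (eE k) * g⁻¹ = ι (zE k) ∧ g * ι (zE k) * g⁻¹ = ι (eE k) := by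
  refine swap_to_e ι S hr hi h1 eE_ne eE_sq eE_ne_zE ⟨w0 k, ⟨0, -kk k, false, false⟩, ?_, ?_, ?_⟩
  · ext <;> simp [eE, w0, act1, act2, neg_hh]
  · ext <;> simp [eE, act1, act2]
  · ext <;> simp [zE, w0, act1, act2]
    rw [← two_mul, two_kk]

/-- In the centralizer the four involutions are conjugate to `e`. -/
theorem cj_eE {w : Mdl (4 * k)} (hw : w = uE k ∨ w = vE k ∨ w = w0 k ∨ w = w1 k) :
    IsConj (ιC ι w) (ιC ι (eE k)) := by
  obtain ⟨g, hg, hgz⟩ := swap_to_e ι S hr hi h1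
    (by rcases hw with rfl | rfl | rfl | rfl <;>
      first | exact ne_one_of_i rfl | exact ne_one_of_j rfl)
    (by rcases hw with rfl | rfl | rfl | rfl <;> ext <;> simp [uE, vE, w0, w1, act1, act2, one_def])
    (by rcases hw with rfl | rfl | rfl | rfl <;> simp [uE, vE, w0, w1, zE])
    (zE_commutator w hw)
  obtain ⟨g', hg', hgz'⟩ := swap_eE ι S hr hi h1
  have hc : g'⁻¹ * g ∈ cz ι := by
    rw [mem_centralizer_singleton_iff]
    have e : g'⁻¹ * g * ι (zE k) * (g'⁻¹ * g)⁻¹ = ι (zE k) := by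
      rw [show g'⁻¹ * g * ι (zE k) * (g'⁻¹ * g)⁻¹ = g'⁻¹ * (g * ι (zE k) * g⁻¹) * g' by group, hgz, ← hgz']
      group
    exact mul_inv_eq_iff_eq_mul.1 e
  refine isConj_iff.2 ⟨⟨_, hc⟩, Subtype.ext ?_⟩
  show g'⁻¹ * g * ι w * (g'⁻¹ * g)⁻¹ = ι (eE k)
  rw [show g'⁻¹ * g * ι w * (g'⁻¹ * g)⁻¹ = g'⁻¹ * (g * ι w * g⁻¹) * g' by group, hg, ← hg']
  group

/-- Every involution of the subgroup of index two other than `z` is conjugate to `e` in the centralizer. -/
theorem even_cj {x : Mdl (4 * k)} (hx : x ∈ Facts.even k) (h : x * x = 1) (hx1 : x ≠ 1) (hxz : x ≠ zE k) :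
    IsConj (ιC ι x) (ιC ι (eE k)) := by
  rcases Facts.even_involution hx h hx1 with e | e | e | e | e | e
  · exact absurd e hxz
  · exact (ιC ι).map_isConj e
  all_goals exact ((ιC ι).map_isConj e).trans (cj_eE ι S hr hi h1 (by tauto))

/-- The centralizer has a homomorphism onto the group of order two, with kernel meeting the model in
the subgroup of index two. -/
theorem exists_hom {ε : ℕ} (hk : k = 2 ^ ε) :
    ∃ χ : cz ι →* Multiplicative (ZMod 2), ∀ x : Mdl (4 * k), χ (ιC ι x) = parHom k x := by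
  classical
  have : Fact (Nat.Prime 2) := ⟨Nat.prime_two⟩
  have hiC : Function.Injective (ιC ι) := fun a b e => hi (congrArg Subtype.val e)
  set R := (ιC ι).range with hR
  have hRodd : Odd R.index := by
    have hS : (S : Subgroup G).subgroupOf (cz ι) = R := by
      ext ⟨y, hy⟩
      rw [mem_subgroupOf, ← hr]
      constructor
      · rintro ⟨a, rfl⟩; exact ⟨a, Subtype.ext rfl⟩
      · rintro ⟨a, ha⟩; exact ⟨a, congrArg Subtype.val ha⟩
    have hle : (S : Subgroup G) ≤ cz ι := by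
      rw [← hr]; rintro _ ⟨a, rfl⟩; exact mem_cz ι a
    rw [← hS]
    exact (Nat.not_even_iff_odd.1 fun h => S.not_dvd_index h.two_dvd).of_dvd_nat
      (Dvd.intro _ (relIndex_mul_index hle))
  let e := MonoidHom.ofInjective hiC
  let φ : R →* Multiplicative (ZMod 2) := (parHom k).comp e.symm.toMonoidHom
  let χ := MonoidHom.transfer φ
  refine ⟨χ, ?_⟩
  -- the element of order `8k` is not in the kernel
  have hphi : ∀ (y : Mdl (4 * k)) (h : ιC ι y ∈ R), φ ⟨ιC ι y, h⟩ = parHom k y := fun y h => by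
    show parHom k (e.symm ⟨ιC ι y, h⟩) = _
    rw [show (⟨ιC ι y, h⟩ : R) = e y from Subtype.ext rfl, MulEquiv.symm_apply_apply]
  have hc : χ (ιC ι (Facts.cE k)) = Multiplicative.ofAdd 1 := by
    set g := ιC ι (Facts.cE k) with hg
    let _ : Fintype (cz ι ⧸ R) := Fintype.ofFinite _
    show MonoidHom.transfer φ g = _
    rw [MonoidHom.transfer_eq_prod_quotient_orbitRel_zpowers_quot,
      Finset.prod_congr rfl (g := fun q : Quotient (MulAction.orbitRel (zpowers g) (cz ι ⧸ R)) =>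
        Multiplicative.ofAdd ((Function.minimalPeriod (g • ·) q.out : ℕ) : ZMod 2)) fun q _ => ?_]
    · rw [← ofAdd_sum, ← Nat.cast_sum, ← Subgroup.index_eq_sum_minimalPeriod]
      congr 1
      exact (ZMod.natCast_eq_one_iff_odd).2 hRodd
    set j := Function.minimalPeriod (g • ·) q.out with hj
    have hmem := QuotientGroup.out_conj_pow_minimalPeriod_mem R g q.out
    obtain ⟨y, hy⟩ := hmem
    rw [show (⟨_, QuotientGroup.out_conj_pow_minimalPeriod_mem R g q.out⟩ : R) =
      ⟨ιC ι y, (MonoidHom.mem_range.2 ⟨y, rfl⟩ : ιC ι y ∈ (ιC ι).range)⟩ from Subtype.ext hy.symm, hphi]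
    show Multiplicative.ofAdd (par k y.p) = Multiplicative.ofAdd (j : ZMod 2)
    congr 1
    -- powers of `g`
    have hg4 : g ^ (4 * k) = ιC ι (zE k) := by rw [hg, ← map_pow, Facts.pow_cE]
    have hzc : ∀ d : cz ι, d⁻¹ * ιC ι (zE k) * d = ιC ι (zE k) := fun d => Subtype.ext (by
      show (d : G)⁻¹ * ι (zE k) * d = ι (zE k)
      rw [mul_assoc, ← mem_centralizer_singleton_iff.1 d.2, inv_mul_cancel_left])
    have hg8 : g ^ 2 ^ (ε + 3) = 1 := by
      rw [show 2 ^ (ε + 3) = 4 * k * 2 by rw [hk]; ring, pow_mul, hg4, pow_two, ← map_mul, zE_sq, map_one]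
    have hpow : ∀ n : ℕ, ιC ι (y ^ n) = (q.out.out)⁻¹ * g ^ (j * n) * q.out.out := fun n => by
      have h3 := conj_pow (a := q.out.out⁻¹) (b := g ^ j) (i := n)
      rw [inv_inv] at h3
      rw [map_pow, hy, h3, ← pow_mul]
    obtain ⟨i, hile, hi2⟩ : ∃ i ≤ ε + 3, j = 2 ^ i := by
      refine (Nat.dvd_prime_pow Nat.prime_two).1 ?_
      rw [hj]
      refine Function.IsPeriodicPt.minimalPeriod_dvd ?_
      show (g • ·)^[2 ^ (ε + 3)] q.out = q.out
      rw [smul_iterate, hg8]
      exact one_smul _ _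
    have hk4 : 4 * k = 2 ^ (ε + 2) := by rw [hk]; ring
    rcases Nat.eq_zero_or_pos i with rfl | hi0
    · rw [pow_zero] at hi2
      rw [hi2, Nat.cast_one]
      refine (par_cases y.p).resolve_left fun hev => ?_
      have h4 := hpow (4 * k)
      rw [hi2, one_mul, hg4, hzc, Facts.pow_four_of_even hev] at h4
      exact zE_ne (hiC h4.symm)
    · have hcast : ((j : ℕ) : ZMod 2) = 0 := by
        rw [hi2, ZMod.natCast_eq_zero_iff_even, Nat.even_pow]
        exact ⟨even_two, hi0.ne'⟩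
      rw [hcast]
      refine (par_cases y.p).resolve_right fun hod => ?_
      have hno : y ∉ Facts.even k := fun h => by
        rw [Facts.mem_even.1 h] at hod; exact zero_ne_one hod
      have h4 : y ^ (4 * k) = 1 := hiC (by
        rw [hpow, map_one, hi2, show 2 ^ i * (4 * k) = 2 ^ (ε + 3) * 2 ^ (i - 1) by
          rw [hk4, ← pow_add, ← pow_add]; congr 1; omega, pow_mul, hg8, one_pow]
        group)
      rcases eq_or_lt_of_le hile with hi3 | hi3
      · have : ιC ι (y ^ 1) = 1 := by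
          rw [hpow, mul_one, hi2, hi3, hg8]; group
        rw [pow_one] at this
        exact hno ((hiC (this.trans (map_one (ιC ι)).symm)).symm ▸ one_mem (Facts.even k))
      · refine Facts.outer_pow_ne hk hno h4 (2 ^ (ε + 2 - i)) (hiC ?_)
        rw [hpow, hi2, ← pow_add, show i + (ε + 2 - i) = ε + 2 by omega, ← hk4, hg4, hzc]
  -- the squares and their conjugates are in the kernel
  have hsq : ∀ d : cz ι, χ (d * d) = 1 := fun d => by
    rw [map_mul]
    exact mul_self_two _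
  have hconj : ∀ a b : cz ι, IsConj a b → χ a = χ b := fun a b h => by
    obtain ⟨d, rfl⟩ := isConj_iff.1 h
    rw [map_mul, map_mul, map_inv, mul_comm (χ d), mul_inv_cancel_right]
  have he : χ (ιC ι (eE k)) = 1 := by
    rw [show eE k = (⟨kk k, 0, false, false⟩ : Mdl (4 * k)) * ⟨kk k, 0, false, false⟩ by
      ext <;> simp [eE, act1, act2]
      rw [← two_mul, two_kk], map_mul (ιC ι)]
    exact hsq _
  have hker : Facts.even k ≤ (χ.comp (ιC ι)).ker := by
    have h4 : ∀ w, (w = uE k ∨ w = vE k ∨ w = w0 k ∨ w = w1 k) → w ∈ (χ.comp (ιC ι)).ker := fun w hw =>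
      (hconj _ _ (cj_eE ι S hr hi h1 hw)).trans he
    refine Facts.even_le (h4 _ (by simp)) (h4 _ (by simp)) (h4 _ (by simp)) (h4 _ (by simp)) ?_
    refine (hconj _ _ (even_cj ι S hr hi h1 Facts.w5_mem Facts.w5_sq (ne_one_of_i rfl) ?_)).trans he
    intro h; simpa [Facts.w5, zE] using congrArg Mdl.i h
  intro x
  rcases par_cases x.p with h | h
  · rw [parHom_apply, h]
    exact (hker (Facts.mem_even.2 h)).trans rfl
  · have h1' : parHom k (x * (Facts.cE k)⁻¹) = 1 := by
      rw [map_mul, map_inv, parHom_cE, parHom_apply, h, mul_inv_cancel]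
    have hm : x * (Facts.cE k)⁻¹ ∈ Facts.even k := Facts.mem_even.2 (Multiplicative.ofAdd.injective h1')
    have e' : x = x * (Facts.cE k)⁻¹ * Facts.cE k := by group
    rw [e', map_mul (ιC ι), map_mul χ, map_mul (parHom k), h1', parHom_cE, hc,
      show χ (ιC ι (x * (Facts.cE k)⁻¹)) = 1 from hker hm]

end Cfsg.Agent.G2Cent
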