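import Cfsg.Agent.Lib.GW.ConsQGroup

/-!
# Covers with one involution of `L₂(q)` and of `A₄` are special linear groups

The last step of S1744 (`notes/s1744-h7.md`, step 4).
-/

set_option autoImplicit false
set_option linter.style.haveILetI false

namespace Cfsg.Agent.G2Cent

open Subgroup Cfsg.Agent.GW.Cons

universe u

variable {G : Type u} [Group G] [Finite G] {z : G} [(zpowers z).Normal]

theorem kernel_card_two (hz : orderOf z = 2) (L : Subgroup (G ⧸ zpowers z)) :
    Nat.card ((QuotientGroup.mk' (zpowers z)).subgroupComap L).ker = 2 := by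
  have hzM : zpowers z ≤ L.comap (QuotientGroup.mk' (zpowers z)) := fun x hx => by
    rw [mem_comap, QuotientGroup.mk'_apply, (QuotientGroup.eq_one_iff x).2 hx]
    exact one_mem _
  have hker : ((QuotientGroup.mk' (zpowers z)).subgroupComap L).ker =
      (zpowers z).subgroupOf (L.comap (QuotientGroup.mk' (zpowers z))) := by
    ext x
    rw [MonoidHom.mem_ker, mem_subgroupOf, ← QuotientGroup.eq_one_iff]
    exact Subtype.ext_iff
  rw [hker, Nat.card_congr (subgroupOfEquivOfLe hzM).toEquiv, Nat.card_zpowers, hz]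

/-- The preimage of `L₂(q)`, with one involution, is `SL₂(q)`. -/
theorem sl_of_cover (hz : orderOf z = 2) (hzc : z ∈ center G) (L : Subgroup (G ⧸ zpowers z))
    {F : Type} [Field F] [Fintype F] (hodd : Odd (Fintype.card F)) (h3 : 3 < Fintype.card F)
    (e : L ≃* Matrix.ProjectiveSpecialLinearGroup (Fin 2) F) (T : Sylow 2 L) {n : ℕ} [NeZero n]
    (eT : (T : Subgroup L) ≃* DihedralGroup n)
    (huniq : ∀ y ∈ L.comap (QuotientGroup.mk' (zpowers z)), orderOf y = 2 → y = z) :
    Nonempty (L.comap (QuotientGroup.mk' (zpowers z)) ≃* Matrix.SpecialLinearGroup (Fin 2) F) := by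
  haveI : Fact (Nat.Prime 2) := ⟨Nat.prime_two⟩
  haveI := TimesPSLTwo.psl_simple (F := F) h3
  haveI : IsSimpleGroup L := e.isSimpleGroup
  have hev : 2 ∣ Nat.card L := by
    refine Dvd.dvd.trans ?_ (card_subgroup_dvd_card (T : Subgroup L))
    rw [Nat.card_congr eT.toEquiv, DihedralGroup.nat_card]
    exact dvd_mul_right 2 n
  have hcomm : commutator L = ⊤ := by
    have hsl := sl_double F hodd h3
    have h1 : commutator (Matrix.ProjectiveSpecialLinearGroup (Fin 2) F) = ⊤ := by
      rw [_root_.commutator_def, ← Subgroup.map_top_of_surjective _ hsl.surj, ← Subgroup.map_commutator,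
        ← _root_.commutator_def, hsl.perfect]
    rw [_root_.commutator_def, ← Subgroup.map_top_of_surjective e.symm.toMonoidHom e.symm.surjective,
      ← Subgroup.map_commutator, ← _root_.commutator_def, h1]
  have hLL : ⁅L, L⁆ = L := by
    conv_lhs => rw [← L.range_subtype, MonoidHom.range_eq_map, ← Subgroup.map_commutator,
      ← _root_.commutator_def, hcomm, ← MonoidHom.range_eq_map, L.range_subtype]
  have hd := double_of_preimage hz hzc L hLL hev huniq
  let ξ := e.toMonoidHom.comp ((QuotientGroup.mk' (zpowers z)).subgroupComap L)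
  have hker : ξ.ker = ((QuotientGroup.mk' (zpowers z)).subgroupComap L).ker :=
    MonoidHom.ker_comp_of_injective _ _ e.injective
  have hd' : IsDouble ξ :=
    ⟨hd.perfect, e.surjective.comp hd.surj, hker ▸ hd.central, hker ▸ hd.card⟩
  exact double_unique hd' (sl_double F hodd h3) (T.mapSurjective (f := e.toMonoidHom) e.surjective)
    ((e.subgroupMap (T : Subgroup L)).symm.trans eT)

/-- The preimage of `A₄`, with a quaternion Sylow 2-subgroup, is `SL₂(3)`. -/
theorem sl_three_of_cover (hz : orderOf z = 2) (L : Subgroup (G ⧸ zpowers z)) (h12 : Nat.card L = 12)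
    (V : Subgroup L) [V.Normal] (hV : Nat.card V = 4) (hC : centralizer (V : Set L) ≤ V)
    (P : Sylow 2 (L.comap (QuotientGroup.mk' (zpowers z)))) {m : ℕ}
    (eP : (P : Subgroup (L.comap (QuotientGroup.mk' (zpowers z)))) ≃* QuaternionGroup (2 ^ m)) :
    Nonempty (L.comap (QuotientGroup.mk' (zpowers z)) ≃* Matrix.SpecialLinearGroup (Fin 2) (ZMod 3)) :=
  (sl23_of_cover P eP ((QuotientGroup.mk' (zpowers z)).subgroupComap L)
    (MonoidHom.subgroupComap_surjective_of_surjective _ L (QuotientGroup.mk'_surjective _))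
    (kernel_card_two hz L) h12 V hV hC).2

end Cfsg.Agent.G2Cent
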