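import Cfsg.Agent.Lib.G2Type.Classes

/-!
The quaternion factors of the model of a Sylow 2-subgroup of `G₂(q)`, `q` odd.
-/

set_option autoImplicit false

namespace Cfsg.Agent.G2Cent.Facts

open Cfsg.Agent.G2Type Cfsg.Agent.G2Type.Mdl

variable (k : ℕ)

/-- The subgroup of index two. -/
def even : Subgroup (Mdl (4 * k)) where
  carrier := {x | par k x.p = 0}
  one_mem' := by show par k (1 : Mdl (4 * k)).p = 0; simp
  mul_mem' := by
    rintro ⟨p, q, i, j⟩ ⟨p', q', i', j'⟩ (ha : par k p = 0) (hb : par k p' = 0)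
    show par k (p + act1 i j p' q') = 0
    cases i <;> simp [act1, ha, hb]
  inv_mem' := by
    rintro ⟨p, q, i, j⟩ (ha : par k p = 0)
    show par k (-act1 i j p q) = 0
    cases i <;> simp [act1, ha]

/-- The first quaternion factor. -/
def fac1 : Subgroup (Mdl (4 * k)) where
  carrier := {x | x.i = false ∧ x.p = bif x.j then hh k else 0}
  one_mem' := ⟨rfl, rfl⟩
  mul_mem' := by
    rintro ⟨p, q, i, j⟩ ⟨p', q', i', j'⟩ ⟨(hi : i = false), (hp : p = bif j then hh k else 0)⟩
      ⟨(hi' : i' = false), (hp' : p' = bif j' then hh k else 0)⟩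
    subst hi hi' hp hp'
    refine ⟨rfl, ?_⟩
    cases j <;> cases j' <;> simp [act1] <;> (rw [← two_mul]; exact two_hh)
  inv_mem' := by
    rintro ⟨p, q, i, j⟩ ⟨(hi : i = false), (hp : p = bif j then hh k else 0)⟩
    subst hi hp
    refine ⟨rfl, ?_⟩
    cases j <;> simp [act1, neg_hh]

/-- The second quaternion factor. -/
def fac2 : Subgroup (Mdl (4 * k)) where
  carrier := {x | x.j = false ∧ x.p + 2 * x.q = bif x.i then hh k else 0}
  one_mem' := ⟨rfl, by simp⟩
  mul_mem' := by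
    rintro ⟨p, q, i, j⟩ ⟨p', q', i', j'⟩ ⟨(hj : j = false), (h : p + 2 * q = bif i then hh k else 0)⟩
      ⟨(hj' : j' = false), (h' : p' + 2 * q' = bif i' then hh k else 0)⟩
    subst hj hj'
    refine ⟨rfl, ?_⟩
    have h2 := two_hh (k := k)
    cases i <;> cases i' <;> simp [act1, act2] at h h' ⊢ <;> grind
  inv_mem' := by
    rintro ⟨p, q, i, j⟩ ⟨(hj : j = false), (h : p + 2 * q = bif i then hh k else 0)⟩
    subst hj
    refine ⟨rfl, ?_⟩
    have h2 := two_hh (k := k)
    cases i <;> simp [act1, act2] at h ⊢ <;> grind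

/-- The element outside the subgroup of index two. -/
def cE : Mdl (4 * k) := ⟨1, 0, true, false⟩
/-- A rotation of the first factor. -/
def rot1 : Mdl (4 * k) := ⟨0, 1, false, false⟩
/-- A reflection of the first factor. -/
def ref1 : Mdl (4 * k) := ⟨hh k, 0, false, true⟩
/-- A rotation of the second factor. -/
def rot2 : Mdl (4 * k) := ⟨2, -1, false, false⟩
/-- A reflection of the second factor. -/
def ref2 : Mdl (4 * k) := ⟨hh k, 0, true, false⟩
/-- The element of order four central in the first factor modulo `z`. -/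
def z1 : Mdl (4 * k) := ⟨0, kk k, false, false⟩
/-- The element of order four central in the second factor modulo `z`. -/
def z2 : Mdl (4 * k) := ⟨hh k, kk k, false, false⟩

variable {k}

theorem mem_even {x : Mdl (4 * k)} : x ∈ even k ↔ par k x.p = 0 := Iff.rfl

theorem rot_pow (a b : ZMod (4 * k)) : ∀ n : ℕ,
    (⟨a, b, false, false⟩ : Mdl (4 * k)) ^ n = ⟨(n : ZMod (4 * k)) * a, (n : ZMod (4 * k)) * b, false, false⟩
  | 0 => by simp [one_def]
  | n + 1 => by
    rw [pow_succ, rot_pow a b n]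
    ext <;> simp [act1, act2, add_mul]

theorem pow_four_eq (x : Mdl (4 * k)) : x ^ (4 * k) = (x * x) ^ (2 * k) := by
  rw [← pow_two, ← pow_mul]
  congr 1
  ring

theorem fac1_le : fac1 k ≤ even k := by
  rintro ⟨p, q, i, j⟩ ⟨-, (hp : p = bif j then hh k else 0)⟩
  show par k p = 0
  subst hp
  cases j <;> simp [par_hh]

theorem fac2_le : fac2 k ≤ even k := by
  rintro ⟨p, q, i, j⟩ ⟨-, (h : p + 2 * q = bif i then hh k else 0)⟩
  show par k p = 0
  have := congrArg (par k) h
  rw [map_add, par_two_mul, add_zero] at this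
  rw [this]
  cases i <;> simp [par_hh]

theorem commute_fac {a b : Mdl (4 * k)} (ha : a ∈ fac1 k) (hb : b ∈ fac2 k) : a * b = b * a := by
  obtain ⟨p, q, i, j⟩ := a
  obtain ⟨p', q', i', j'⟩ := b
  obtain ⟨(hi : i = false), (hp : p = bif j then hh k else 0)⟩ := ha
  obtain ⟨(hj : j' = false), (h : p' + 2 * q' = bif i' then hh k else 0)⟩ := hb
  subst hi hj hp
  have h2 := two_hh (k := k)
  cases j <;> cases i' <;> simp [act1, act2] at h ⊢ <;> grind

theorem cE_conj_fac1 {x : Mdl (4 * k)} (hx : x ∈ fac1 k) : cE k * x * (cE k)⁻¹ ∈ fac1 k := by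
  obtain ⟨p, q, i, j⟩ := x
  obtain ⟨(hi : i = false), (hp : p = bif j then hh k else 0)⟩ := hx
  subst hi hp
  refine ⟨by simp [cE], ?_⟩
  cases j <;> simp [cE, act1, act2, neg_hh] <;> ring

theorem cE_conj_fac2 {x : Mdl (4 * k)} (hx : x ∈ fac2 k) : cE k * x * (cE k)⁻¹ ∈ fac2 k := by
  obtain ⟨p, q, i, j⟩ := x
  obtain ⟨(hj : j = false), (h : p + 2 * q = bif i then hh k else 0)⟩ := hx
  subst hj
  refine ⟨by simp [cE], ?_⟩
  have h2 := two_hh (k := k)
  cases i <;> simp [cE, act1, act2] at h ⊢ <;> grind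

theorem cE_conj_eE : cE k * eE k * (cE k)⁻¹ = eE k * zE k := by
  ext <;> simp [cE, eE, zE, act1, act2, neg_hh]

theorem z1_mem : z1 k ∈ fac1 k := ⟨rfl, rfl⟩
theorem z2_mem : z2 k ∈ fac2 k := ⟨rfl, by
  show hh k + 2 * kk k = 0
  rw [two_kk, ← two_mul, two_hh]⟩
theorem rot1_mem : rot1 k ∈ fac1 k := ⟨rfl, rfl⟩
theorem ref1_mem : ref1 k ∈ fac1 k := ⟨rfl, rfl⟩
theorem rot2_mem : rot2 k ∈ fac2 k := ⟨rfl, by show (2 : ZMod (4 * k)) + 2 * (-1) = 0; ring⟩
theorem ref2_mem : ref2 k ∈ fac2 k := ⟨rfl, by show hh k + 2 * 0 = hh k; ring⟩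
theorem cE_not_mem : cE k ∉ even k := fun h => by
  have h' : par k (1 : ZMod (4 * k)) = 0 := h
  rw [map_one] at h'
  exact one_ne_zero h'

theorem z1_sq : z1 k * z1 k = zE k := by
  ext <;> simp [z1, zE, act1, act2]
  rw [← two_mul, two_kk]
theorem z2_sq : z2 k * z2 k = zE k := by
  ext <;> simp [z2, zE, act1, act2]
  · rw [← two_mul]; exact two_hh
  · rw [← two_mul, two_kk]
theorem z1_mul_z2 : z1 k * z2 k = eE k * zE k := by
  ext <;> simp [z1, z2, eE, zE, act1, act2]
  rw [← two_mul, two_kk]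

theorem z1_central (x : Mdl (4 * k)) : z1 k * x = x * z1 k ∨ z1 k * x = x * z1 k * zE k := by
  obtain ⟨p, q, i, j⟩ := x
  have h2 := two_kk (k := k)
  have h3 := two_hh (k := k)
  cases i <;> cases j <;> simp [Mdl.ext_iff, z1, zE, act1, act2] <;> grind

theorem z2_central {x : Mdl (4 * k)} : z2 k * x = x * z2 k ∨ z2 k * x = x * z2 k * zE k := by
  obtain ⟨p, q, i, j⟩ := x
  have h2 := two_kk (k := k)
  have h3 := two_hh (k := k)
  cases i <;> cases j <;> simp [Mdl.ext_iff, z2, zE, act1, act2] <;> grind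

theorem rot1_pow : rot1 k ^ (2 * k) = zE k := by
  rw [rot1, rot_pow]
  ext <;> simp [zE, hh]

theorem rot2_pow : rot2 k ^ (2 * k) = zE k := by
  rw [rot2, rot_pow]
  have h : ((2 * k : ℕ) : ZMod (4 * k)) = hh k := rfl
  rw [h]
  ext <;> simp [zE, neg_hh]
  exact (mul_comm _ _).trans two_hh

theorem ref1_sq : ref1 k * ref1 k = zE k := by
  ext <;> simp [ref1, zE, act1, act2, neg_hh]
  rw [← two_mul]; exact two_hh
theorem ref2_sq : ref2 k * ref2 k = zE k := by
  ext <;> simp [ref2, zE, act1, act2]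
theorem ref1_rot1 : ref1 k * rot1 k * (ref1 k)⁻¹ = (rot1 k)⁻¹ := by
  ext <;> simp [ref1, rot1, act1, act2]
theorem ref2_rot2 : ref2 k * rot2 k * (ref2 k)⁻¹ = (rot2 k)⁻¹ := by
  ext <;> simp [ref2, rot2, act1, act2] <;> ring

theorem cE_ref1_eq : cE k * ref1 k * (cE k)⁻¹ = ⟨hh k, hh k + 1, false, true⟩ := by
  ext <;> simp [cE, ref1, act1, act2, neg_hh] <;> ring

theorem cE_ref2_eq : cE k * ref2 k * (cE k)⁻¹ = ⟨hh k + 2, hh k - 1, true, false⟩ := by
  ext <;> simp [cE, ref2, act1, act2, neg_hh] <;> ring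

theorem cE_ref1_ne [NeZero k] : cE k * ref1 k * (cE k)⁻¹ ≠ ref1 k ∧
    cE k * ref1 k * (cE k)⁻¹ ≠ ref1 k * zE k := by
  rw [cE_ref1_eq]
  have h2 : (2 : ZMod (4 * k)) ≠ 0 := fun h => by
    have h' : ((2 : ℕ) : ZMod (4 * k)) = 0 := by simpa using h
    have := Nat.le_of_dvd two_pos ((ZMod.natCast_eq_zero_iff _ _).1 h')
    have := NeZero.pos k
    omega
  have h3 := two_hh (k := k)
  constructor <;> intro h <;> have := congrArg Mdl.q h <;> simp [ref1, zE, act1, act2] at this <;> grind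

theorem cE_ref2_ne [NeZero k] : cE k * ref2 k * (cE k)⁻¹ ≠ ref2 k ∧
    cE k * ref2 k * (cE k)⁻¹ ≠ ref2 k * zE k := by
  rw [cE_ref2_eq]
  have h2 : (2 : ZMod (4 * k)) ≠ 0 := fun h => by
    have h' : ((2 : ℕ) : ZMod (4 * k)) = 0 := by simpa using h
    have := Nat.le_of_dvd two_pos ((ZMod.natCast_eq_zero_iff _ _).1 h')
    have := NeZero.pos k
    omega
  constructor <;> intro h <;> have := congrArg Mdl.p h <;> simp [ref2, zE, act1, act2] at this <;> grind

theorem four_ne (hk : 2 ≤ k) : (4 : ZMod (4 * k)) ≠ 0 := fun h => by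
  have h' : ((4 : ℕ) : ZMod (4 * k)) = 0 := by simpa using h
  have := Nat.le_of_dvd (by norm_num) ((ZMod.natCast_eq_zero_iff _ _).1 h')
  omega

theorem swap1 (hk : 2 ≤ k) :
    ref1 k * (cE k * ref1 k * (cE k)⁻¹) * (ref1 k * (cE k * ref1 k * (cE k)⁻¹)) ∉
      ({1, zE k} : Set (Mdl (4 * k))) := by
  rw [cE_ref1_eq]
  have := four_ne hk
  have h3 := two_hh (k := k)
  simp [Mdl.ext_iff, ref1, zE, act1, act2, one_def]
  refine ⟨?_, ?_⟩ <;> intros <;> grind

theorem swap2 (hk : 2 ≤ k) :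
    ref2 k * (cE k * ref2 k * (cE k)⁻¹) * (ref2 k * (cE k * ref2 k * (cE k)⁻¹)) ∉
      ({1, zE k} : Set (Mdl (4 * k))) := by
  rw [cE_ref2_eq]
  have := four_ne hk
  have h3 := two_hh (k := k)
  simp [Mdl.ext_iff, ref2, zE, act1, act2, one_def]
  refine ⟨?_, ?_⟩ <;> intros <;> grind

variable [NeZero k]

theorem exists_fac_mul {x : Mdl (4 * k)} (hx : x ∈ even k) :
    ∃ a ∈ fac1 k, ∃ b ∈ fac2 k, x = a * b := by
  obtain ⟨p, q, i, j⟩ := x
  obtain ⟨a, rfl⟩ := exists_two_mul (x := p) hx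
  set s : ZMod (4 * k) := bif i then kk k else 0 with hs
  have h2 := two_kk (k := k)
  have h3 := two_hh (k := k)
  cases j
  · refine ⟨⟨0, q - (s - a), false, false⟩, ⟨rfl, rfl⟩, ⟨2 * a, s - a, i, false⟩, ⟨rfl, ?_⟩, ?_⟩
    · show 2 * a + 2 * (s - a) = bif i then hh k else 0
      cases i <;> simp [hs] <;> grind
    · cases i <;> ext <;> simp [act1, act2]
  · refine ⟨⟨hh k, q + (2 * a - hh k) + (s - a + kk k), false, true⟩, ⟨rfl, rfl⟩,
      ⟨2 * a - hh k, s - a + kk k, i, false⟩, ⟨rfl, ?_⟩, ?_⟩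
    · show 2 * a - hh k + 2 * (s - a + kk k) = bif i then hh k else 0
      cases i <;> simp [hs] <;> grind
    · cases i <;> ext <;> simp [act1, act2] <;> ring

theorem fac1_sq {x : Mdl (4 * k)} (hx : x ∈ fac1 k) (h : x * x = 1) : x = 1 ∨ x = zE k := by
  obtain ⟨p, q, i, j⟩ := x
  obtain ⟨(hi : i = false), (hp : p = bif j then hh k else 0)⟩ := hx
  subst hi hp
  have h1 := congrArg Mdl.q h
  cases j <;> simp [act1, act2] at h1
  · rcases two_mul_eq_zero (x := q) (by rw [two_mul]; exact h1) with rfl | rfl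
    · exact Or.inl rfl
    · exact Or.inr rfl
  · exact absurd h1 (by
      intro h; exact hh_ne (k := k) (by grind))

theorem fac2_sq {x : Mdl (4 * k)} (hx : x ∈ fac2 k) (h : x * x = 1) : x = 1 ∨ x = zE k := by
  obtain ⟨p, q, i, j⟩ := x
  obtain ⟨(hj : j = false), (hl : p + 2 * q = bif i then hh k else 0)⟩ := hx
  subst hj
  have h1 := congrArg Mdl.q h
  have h0 := congrArg Mdl.p h
  cases i <;> simp [act1, act2] at h1 h0 hl
  · rcases two_mul_eq_zero (x := q) (by rw [two_mul]; exact h1) with rfl | rfl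
    · obtain rfl : p = 0 := by linear_combination hl
      exact Or.inl rfl
    · obtain rfl : p = 0 := by linear_combination hl - two_hh (k := k)
      exact Or.inr rfl
  · exact absurd hl (by intro hl; exact hh_ne (k := k) (by linear_combination h1 - hl))

theorem fac_inf {x : Mdl (4 * k)} (h1 : x ∈ fac1 k) (h2 : x ∈ fac2 k) : x = 1 ∨ x = zE k := by
  refine fac1_sq h1 ?_
  obtain ⟨p, q, i, j⟩ := x
  obtain ⟨(hi : i = false), (hp : p = bif j then hh k else 0)⟩ := h1
  obtain ⟨(hj : j = false), (hl : p + 2 * q = bif i then hh k else 0)⟩ := h2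
  subst hi hj hp
  simp at hl
  ext <;> simp [act1, act2]
  linear_combination hl

theorem fac1_eq {x : Mdl (4 * k)} (hx : x ∈ fac1 k) :
    ∃ n : ℕ, x = rot1 k ^ n ∨ x = rot1 k ^ n * ref1 k := by
  obtain ⟨p, q, i, j⟩ := x
  obtain ⟨(hi : i = false), (hp : p = bif j then hh k else 0)⟩ := hx
  subst hi hp
  refine ⟨q.val, ?_⟩
  cases j
  · left; rw [rot1, rot_pow]; ext <;> simp
  · right; rw [rot1, rot_pow]; ext <;> simp [ref1, act1, act2]

theorem fac2_eq {x : Mdl (4 * k)} (hx : x ∈ fac2 k) :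
    ∃ n : ℕ, x = rot2 k ^ n ∨ x = rot2 k ^ n * ref2 k := by
  obtain ⟨p, q, i, j⟩ := x
  obtain ⟨(hj : j = false), (hl : p + 2 * q = bif i then hh k else 0)⟩ := hx
  subst hj
  refine ⟨(-q).val, ?_⟩
  cases i <;> simp at hl
  · left; rw [rot2, rot_pow]; ext <;> simp <;> linear_combination hl
  · right; rw [rot2, rot_pow]; ext <;> simp [ref2, act1, act2] <;> linear_combination hl

/-- An involution of the index two subgroup other than `z` is conjugate to one of five. -/
theorem even_involution {x : Mdl (4 * k)} (hx : x ∈ even k) (h : x * x = 1) (h1 : x ≠ 1) :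
    x = zE k ∨ IsConj x (eE k) ∨ IsConj x (uE k) ∨ IsConj x (vE k) ∨ IsConj x (w0 k) ∨ IsConj x (w1 k) := by
  rcases involution_cases h h1 with hc | hc | hc | hc | hc | hc | hc
  · left
    obtain ⟨g, hg⟩ := isConj_iff.1 hc
    rwa [← mul_left_inj g, mul_assoc, inv_mul_cancel, mul_one, zE_central, mul_right_inj] at hg
  · exact Or.inr (Or.inl hc)
  · exact Or.inr (Or.inr (Or.inl hc))
  · exact Or.inr (Or.inr (Or.inr (Or.inl hc)))
  · exact Or.inr (Or.inr (Or.inr (Or.inr (Or.inl hc))))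
  · exact Or.inr (Or.inr (Or.inr (Or.inr (Or.inr hc))))
  · have := par_p_of_isConj hc
    rw [mem_even.1 hx] at this
    simp [w2] at this

theorem eq_zE_of_central {x : Mdl (4 * k)} (hc : ∀ y, x * y = y * x) (h : x * x = 1) (h1 : x ≠ 1) :
    x = zE k := by
  obtain ⟨p, q, i, j⟩ := x
  have a1 := congrArg Mdl.p (hc ⟨1, 0, false, false⟩)
  have a2 := congrArg Mdl.q (hc ⟨1, 0, false, false⟩)
  have b := congrArg Mdl.q (hc (uE k))
  have h2 : (2 : ZMod (4 * k)) ≠ 0 := fun h => by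
    have h' : ((2 : ℕ) : ZMod (4 * k)) = 0 := by simpa using h
    have := Nat.le_of_dvd two_pos ((ZMod.natCast_eq_zero_iff _ _).1 h')
    have := NeZero.pos k
    omega
  have h10 : (1 : ZMod (4 * k)) ≠ 0 := fun h => h2 (by linear_combination (2 : ZMod (4 * k)) * h)
  cases i <;> cases j <;> simp [act1, act2, uE] at a1 a2 b
  · rcases abelian_involution rfl rfl h h1 with e | e
    · exact e
    · obtain ⟨g, hg⟩ := isConj_iff.1 e
      rw [← hc g, mul_inv_cancel_right] at hg
      have := congrArg Mdl.p hg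
      simp [eE, b] at this
      exact absurd this.symm hh_ne
  all_goals grind

/-- An involution generating with the others the subgroup of index two. -/
def w5 (k : ℕ) : Mdl (4 * k) := ⟨2, -1, true, false⟩

omit [NeZero k] in
theorem w5_mem : w5 k ∈ even k := by
  show par k (2 : ZMod (4 * k)) = 0
  rw [← mul_one (2 : ZMod (4 * k)), par_two_mul]

omit [NeZero k] in
theorem w5_sq : w5 k * w5 k = 1 := by
  ext <;> simp [w5, act1, act2, one_def] <;> ring

/-- The five involutions generate the subgroup of index two. -/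
theorem even_le {M : Subgroup (Mdl (4 * k))} (hu : uE k ∈ M) (hv : vE k ∈ M) (h0 : w0 k ∈ M)
    (h1 : w1 k ∈ M) (h5 : w5 k ∈ M) : even k ≤ M := by
  have hr1 : rot1 k ∈ M := by
    rw [show rot1 k = w1 k * w0 k by ext <;> simp [rot1, w1, w0, act1, act2]]
    exact mul_mem h1 h0
  have hr2 : rot2 k ∈ M := by
    rw [show rot2 k = w5 k * uE k by ext <;> simp [rot2, w5, uE, act1, act2]]
    exact mul_mem h5 hu
  rintro ⟨p, q, i, j⟩ hx
  obtain ⟨a, rfl⟩ := exists_two_mul (x := p) hx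
  have e : (⟨2 * a, q, i, j⟩ : Mdl (4 * k)) = rot2 k ^ a.val * rot1 k ^ (q + a).val *
      ((bif i then uE k else 1) * (bif j then vE k else 1)) := by
    rw [rot2, rot1, rot_pow, rot_pow]
    cases i <;> cases j <;> ext <;> simp [uE, vE, one_def, act1, act2] <;> ring
  rw [e]
  refine mul_mem (mul_mem (pow_mem hr2 _) (pow_mem hr1 _)) (mul_mem ?_ ?_)
  · cases i
    · exact one_mem _
    · exact hu
  · cases j
    · exact one_mem _
    · exact hv

variable {ε : ℕ}

theorem natCast_four : ((4 * k : ℕ) : ZMod (4 * k)) = 0 := ZMod.natCast_self _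

theorem pow_four_of_even {x : Mdl (4 * k)} (hx : x ∈ even k) : x ^ (4 * k) = 1 := by
  obtain ⟨p, q, i, j⟩ := x
  obtain ⟨a, rfl⟩ := exists_two_mul (x := p) hx
  have h0 := natCast_four (k := k)
  push_cast at h0
  cases i <;> cases j
  · rw [rot_pow]; ext <;> simp <;> grind
  all_goals
    rw [pow_four_eq]
    simp only [mul_mk, act1, act2, cond_true, cond_false, Bool.xor_self]
    rw [rot_pow]
    ext <;> simp [one_def] <;> grind

theorem pow_cE : cE k ^ (4 * k) = zE k := by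
  rw [pow_four_eq, cE, mul_mk]
  simp only [act1, act2, cond_true, Bool.xor_self]
  rw [rot_pow]
  have h : ((2 * k : ℕ) : ZMod (4 * k)) = hh k := rfl
  rw [h]
  ext <;> simp [zE]

theorem odd_unit (hk : k = 2 ^ ε) {p : ZMod (4 * k)} (hp : par k p = 1) : IsUnit p := by
  rw [← ZMod.natCast_zmod_val p, map_natCast] at hp
  rw [← ZMod.natCast_zmod_val p, ZMod.isUnit_iff_coprime]
  have ho : Odd p.val := Nat.not_even_iff_odd.1 fun h => by
    rw [(ZMod.natCast_eq_zero_iff_even).2 h] at hp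
    exact zero_ne_one hp
  exact Nat.Coprime.coprime_dvd_right (dvd_of_eq (show 4 * k = 2 ^ (ε + 2) by rw [hk]; ring))
    (Nat.Coprime.pow_right _ (Nat.coprime_two_right.2 ho))

/-- Outside, no power of an element of order at most `4k` is `z`. -/
theorem outer_pow_ne (hk : k = 2 ^ ε) {x : Mdl (4 * k)} (hx : x ∉ even k) (h4 : x ^ (4 * k) = 1) (m : ℕ) :
    x ^ m ≠ zE k := by
  obtain ⟨p, q, i, j⟩ := x
  have hp : par k p = 1 := (par_cases p).resolve_left hx
  have hu := odd_unit hk hp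
  have hhu : ∀ {r : ZMod (4 * k)}, par k r = 1 → hh k * r ≠ 0 := fun {r} hr h =>
    hh_ne ((odd_unit hk hr).mul_left_eq_zero.1 h)
  cases i <;> cases j
  · intro h
    rw [rot_pow] at h
    have h1 := congrArg Mdl.p h
    have h2 := congrArg Mdl.q h
    simp [zE] at h1 h2
    rw [hu.mul_left_eq_zero.1 h1, zero_mul] at h2
    exact hh_ne h2.symm
  · exfalso
    rw [pow_four_eq] at h4
    simp only [mul_mk, act1, act2, cond_true, cond_false, Bool.xor_self] at h4
    rw [rot_pow] at h4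
    have h2 := congrArg Mdl.q h4
    rw [show ((2 * k : ℕ) : ZMod (4 * k)) = hh k from rfl] at h2
    simp at h2
    exact hhu (r := p) hp h2
  · exfalso
    rw [pow_four_eq] at h4
    simp only [mul_mk, act1, act2, cond_true, cond_false, Bool.xor_self] at h4
    rw [rot_pow] at h4
    have h2 := congrArg Mdl.q h4
    rw [show ((2 * k : ℕ) : ZMod (4 * k)) = hh k from rfl] at h2
    simp at h2
    refine hhu (r := p + 2 * q) (by rw [map_add, par_two_mul, add_zero, hp]) ?_
    linear_combination h2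
  · have hsq : (⟨p, q, true, true⟩ : Mdl (4 * k)) * ⟨p, q, true, true⟩ = 1 := by
      ext <;> simp [act1, act2, one_def]
    intro h
    rw [← Nat.mod_add_div m 2, pow_add, pow_mul, pow_two, hsq, one_pow, mul_one] at h
    have : m % 2 = 0 ∨ m % 2 = 1 := by omega
    rcases this with e | e <;> rw [e] at h
    · rw [pow_zero] at h; exact zE_ne h.symm
    · rw [pow_one] at h; simpa [zE] using congrArg Mdl.i h

end Cfsg.Agent.G2Cent.Facts
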