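import Cfsg.Agent.Lib.G2Cent.Side

/-!
The two special linear groups above the two components.
-/

set_option autoImplicit false
set_option linter.unusedSectionVars false

open Subgroup
open scoped commutatorElement

namespace Cfsg.Agent.G2Cent

open Cfsg.Agent.GW.Cons

variable {Q : Type*} [Group Q] [Finite Q] {z : Q} [(zpowers z).Normal]

/-- The preimage of a component is `SL₂` of an odd field. -/
theorem comp_sl (hz : orderOf z = 2) (hzc : z ∈ center Q) {H : Subgroup (Q ⧸ zpowers z)}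
    {T : Sylow 2 H} {S₁ S₂ : Subgroup H} {K : Subgroup (Q ⧸ zpowers z)} (hK : Comp H T S₁ S₂ K)
    (hlift : ∀ s ∈ S₁, s ≠ 1 → ∀ q : Q, (q : Q ⧸ zpowers z) = (s : Q ⧸ zpowers z) → q * q ≠ 1) :
    ∃ (F : Type) (_ : Field F) (_ : Fintype F), Odd (Fintype.card F) ∧
      Nonempty (K.comap (QuotientGroup.mk' (zpowers z)) ≃* Matrix.SpecialLinearGroup (Fin 2) F) := by
  classical
  have : Fact (Nat.Prime 2) := ⟨Nat.prime_two⟩
  have huniq : ∀ y ∈ K.comap (QuotientGroup.mk' (zpowers z)), orderOf y = 2 → y = z := by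
    intro y hy ho
    have hy2 : y * y = 1 := by rw [← pow_two, ← ho, pow_orderOf_eq_one]
    have hy1 : y ≠ 1 := fun h => by rw [h, orderOf_one] at ho; norm_num at ho
    by_cases h1 : (y : Q ⧸ zpowers z) = 1
    · obtain ⟨i, -, hi⟩ := (isOfFinOrder_of_finite z).mem_zpowers_iff_mem_range_orderOf.trans
        Finset.mem_image |>.1 ((QuotientGroup.eq_one_iff y).1 h1)
      have : i % 2 = 0 ∨ i % 2 = 1 := by omega
      rw [← pow_mod_orderOf, hz] at hi
      rcases this with e | e <;> rw [e] at hi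
      · exact absurd (hi.symm.trans (pow_zero z)) hy1
      · exact hi.symm.trans (pow_one z)
    exfalso
    set x : H := ⟨(y : Q ⧸ zpowers z), hK.le hy⟩ with hx
    have hp : IsPGroup 2 (zpowers x) := by
      refine ProductFusion.Pair.isPGroup_zpowers (k := 1) (Subtype.ext ?_)
      rw [pow_one, pow_two]
      show (y : Q ⧸ zpowers z) * y = 1
      rw [← QuotientGroup.mk_mul, hy2, QuotientGroup.mk_one]
    obtain ⟨R, hR⟩ := hp.exists_le_sylow
    obtain ⟨g, hg⟩ := MulAction.exists_smul_eq H R T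
    have hgx : g * x * g⁻¹ ∈ (T : Subgroup H) := by
      rw [← hg, Sylow.coe_subgroup_smul]
      exact ⟨_, hR (mem_zpowers x), rfl⟩
    have hs : g * x * g⁻¹ ∈ S₁ := hK.inf _ hgx (by
      rw [Subgroup.coe_mul, Subgroup.coe_mul, Subgroup.coe_inv]
      exact hK.normal.conj_mem _ hy _)
    obtain ⟨g', hg'⟩ := QuotientGroup.mk_surjective (g : Q ⧸ zpowers z)
    refine hlift _ hs (fun h => h1 (congrArg Subtype.val (conj_eq_one_iff.1 h))) (g' * y * g'⁻¹) ?_ ?_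
    · rw [QuotientGroup.mk_mul, QuotientGroup.mk_mul, QuotientGroup.mk_inv, hg']
      simp [hx]
    · rw [show g' * y * g'⁻¹ * (g' * y * g'⁻¹) = g' * (y * y) * g'⁻¹ by group, hy2]
      group
  rcases hK.shape with ⟨F, iF, iT, hodd, h3, ⟨f⟩, P, n, hn, ⟨eP⟩⟩ | ⟨h12, V, hVn, hV, hsq, hC⟩
  · exact ⟨F, iF, iT, hodd, sl_of_psl hz hzc K hodd h3 f P eP hn huniq⟩
  · exact ⟨ZMod 3, inferInstance, inferInstance, by rw [ZMod.card]; decide, sl_of_twelve hz K h12 V hV hsq hC huniq⟩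

/-- The two special linear groups. -/
theorem exists_linear (hz : orderOf z = 2) (hzc : z ∈ center Q) {H : Subgroup (Q ⧸ zpowers z)} [H.Normal]
    {T : Sylow 2 H} {S₁ S₂ : Subgroup H} {c : Q ⧸ zpowers z} (P : Pair T S₁ S₂)
    (hF : Factor H S₁ S₂ c) (hF₂ : Factor H S₂ S₁ c) (hJ : ∀ g, g ∈ H ∨ g * c⁻¹ ∈ H)
    (hcomm : commutator (Q ⧸ zpowers z) ≤ H)
    (hlift : ∀ s : H, s ∈ S₁ ∨ s ∈ S₂ → s ≠ 1 → ∀ q : Q, (q : Q ⧸ zpowers z) = (s : Q ⧸ zpowers z) →
      q * q ≠ 1) :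
    ∃ L₁ L₂ : Subgroup Q, L₁.Normal ∧ L₂.Normal ∧
      (∃ (F₁ : Type) (_ : Field F₁) (_ : Fintype F₁), Odd (Fintype.card F₁) ∧
        Nonempty (↥L₁ ≃* Matrix.SpecialLinearGroup (Fin 2) F₁)) ∧
      (∃ (F₂ : Type) (_ : Field F₂) (_ : Fintype F₂), Odd (Fintype.card F₂) ∧
        Nonempty (↥L₂ ≃* Matrix.SpecialLinearGroup (Fin 2) F₂)) ∧
      ⁅L₁, L₂⁆ = ⊥ ∧ L₁ ⊔ L₂ = commutator Q := by
  classical
  have : Fact (Nat.Prime 2) := ⟨Nat.prime_two⟩
  obtain ⟨K₁, h₁⟩ := exists_comp P hF hF₂ hJ hcomm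
  obtain ⟨K₂, h₂⟩ := exists_comp P.symm hF₂ hF hJ hcomm
  have hn₁ := h₁.normal
  have hn₂ := h₂.normal
  -- what centralizes both closures
  have hN : ∀ x : H, (x : Q ⧸ zpowers z) ∈ centralizer (cl S₁ : Set (Q ⧸ zpowers z)) →
      (x : Q ⧸ zpowers z) ∈ centralizer (cl S₂ : Set (Q ⧸ zpowers z)) → x ∈ (T : Subgroup H) :=
    fun x hx1 hx2 => P.centralizer_le (mem_inf.2
      ⟨mem_centralizer_iff.2 fun y hy => Subtype.ext (mem_centralizer_iff.1 hx1 _ ⟨y, hy, rfl⟩),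
       mem_centralizer_iff.2 fun y hy => Subtype.ext (mem_centralizer_iff.1 hx2 _ ⟨y, hy, rfl⟩)⟩)
  have hmeet : K₁ ⊓ K₂ = ⊥ := by
    refine (eq_bot_iff_forall _).2 fun x hx => ?_
    obtain ⟨hx1, hx2⟩ := mem_inf.1 hx
    have hT := hN ⟨x, h₁.le hx1⟩ (h₂.cent hx2) (h₁.cent hx1)
    have := P.eq_one_of_mem (h₁.inf _ hT hx1) (h₂.inf _ hT hx2)
    exact congrArg Subtype.val this
  have hsup : commutator (Q ⧸ zpowers z) = K₁ ⊔ K₂ := by
    refine le_antisymm (fun j hj => ?_) (sup_le h₁.le_comm h₂.le_comm)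
    obtain ⟨k, hk, hkC⟩ := h₁.inner j hj
    obtain ⟨l, hl, hlC⟩ := h₂.inner j hj
    have hkl : Commute k l := Subgroup.commute_of_normal_of_disjoint K₁ K₂ hn₁ hn₂
      (disjoint_iff.2 hmeet) k l hk hl
    have hn : l⁻¹ * k⁻¹ * j ∈ H := mul_mem (mul_mem (inv_mem (h₂.le hl)) (inv_mem (h₁.le hk))) (hcomm hj)
    have hT := hN ⟨_, hn⟩
      (by
        show l⁻¹ * k⁻¹ * j ∈ _
        rw [mul_assoc]; exact mul_mem (inv_mem (h₂.cent hl)) hkC)
      (by
        show l⁻¹ * k⁻¹ * j ∈ _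
        rw [hkl.symm.inv_inv.eq, mul_assoc]
        exact mul_mem (inv_mem (h₁.cent hk)) hlC)
    obtain ⟨p, hp, q, hq, hpq⟩ := P.decomp hT
    rw [show j = k * l * (l⁻¹ * k⁻¹ * j) by group, show l⁻¹ * k⁻¹ * j = (p : Q ⧸ zpowers z) * q from
      congrArg Subtype.val hpq]
    refine mul_mem (mul_mem (mem_sup_left hk) (mem_sup_right hl)) (mul_mem ?_ ?_)
    · exact mem_sup_left (h₁.le_cl ⟨p, subset_normalClosure hp, rfl⟩)
    · exact mem_sup_right (h₂.le_cl ⟨q, subset_normalClosure hq, rfl⟩)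
  set π := QuotientGroup.mk' (zpowers z) with hπ
  have hker : ∀ (K : Subgroup (Q ⧸ zpowers z)), zpowers z ≤ K.comap π := fun K x hx => by
    rw [mem_comap, hπ, QuotientGroup.mk'_apply, (QuotientGroup.eq_one_iff x).2 hx]; exact one_mem _
  obtain ⟨F₁, iF₁, iT₁, ho₁, ⟨e₁⟩⟩ := comp_sl hz hzc h₁ fun s hs => hlift s (Or.inl hs)
  obtain ⟨F₂, iF₂, iT₂, ho₂, ⟨e₂⟩⟩ := comp_sl hz hzc h₂ fun s hs => hlift s (Or.inr hs)
  -- a map from a component to a 2-group is trivial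
  have hp2 : IsPGroup 2 (zpowers z) := IsPGroup.of_card (n := 1) (by rw [Nat.card_zpowers, hz, pow_one])
  refine ⟨K₁.comap π, K₂.comap π, hn₁.comap π, hn₂.comap π, ⟨F₁, iF₁, iT₁, ho₁, ⟨e₁⟩⟩,
    ⟨F₂, iF₂, iT₂, ho₂, ⟨e₂⟩⟩, ?_, ?_⟩
  · -- they commute
    rw [eq_bot_iff, Subgroup.commutator_le]
    intro x hx y hy
    rw [mem_bot]
    have hz' : ∀ x ∈ K₁.comap π, ⁅x, y⁆ ∈ zpowers z := fun x hx => by
      rw [← QuotientGroup.eq_one_iff, ← QuotientGroup.mk'_apply, map_commutatorElement,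
        commutatorElement_eq_one_iff_mul_comm]
      exact (Subgroup.commute_of_normal_of_disjoint K₁ K₂ hn₁ hn₂ (disjoint_iff.2 hmeet) _ _ hx hy).eq
    let φ : K₁.comap π →* zpowers z := MonoidHom.mk' (fun a => ⟨⁅(a : Q), y⁆, hz' a a.2⟩) fun a b => by
      apply Subtype.ext
      show ⁅(a : Q) * b, y⁆ = ⁅(a : Q), y⁆ * ⁅(b : Q), y⁆
      have h1 : ∀ c ∈ zpowers z, ∀ g : Q, g * c = c * g := fun c hc g =>
        mem_center_iff.1 ((zpowers_le.2 hzc : zpowers z ≤ _) hc) g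
      calc ⁅(a : Q) * b, y⁆ = (a : Q) * ⁅(b : Q), y⁆ * y * (a : Q)⁻¹ * y⁻¹ := by
            simp only [commutatorElement_def]; group
        _ = ⁅(b : Q), y⁆ * ((a : Q) * y * (a : Q)⁻¹ * y⁻¹) := by rw [h1 _ (hz' b b.2) (a : Q)]; group
        _ = ⁅(a : Q), y⁆ * ⁅(b : Q), y⁆ := by rw [← h1 _ (hz' b b.2)]; rfl
    have h1 := sl_to_two_group ho₁ hp2 (φ.comp e₁.symm.toMonoidHom) (e₁ ⟨x, hx⟩)
    simp only [MonoidHom.comp_apply, MulEquiv.coe_toMonoidHom, MulEquiv.symm_apply_apply] at h1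
    exact congrArg Subtype.val h1
  · have hmap : (commutator Q).map π = commutator (Q ⧸ zpowers z) := by
      rw [_root_.commutator_def, Subgroup.map_commutator,
        Subgroup.map_top_of_surjective _ (QuotientGroup.mk'_surjective _), _root_.commutator_def]
    refine le_antisymm ?_ ?_
    · have key : ∀ (K : Subgroup (Q ⧸ zpowers z)) (F : Type) [Field F] [Fintype F], Odd (Fintype.card F) →
          (K.comap π ≃* Matrix.SpecialLinearGroup (Fin 2) F) → K ≤ commutator (Q ⧸ zpowers z) →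
          K.comap π ≤ commutator Q := by
        intro K F _ _ ho e hK x hx
        have hp : IsPGroup 2 ((zpowers z).map (QuotientGroup.mk' (commutator Q))) := hp2.map _
        have hmem : ∀ a : K.comap π, QuotientGroup.mk' (commutator Q) (a : Q) ∈
            (zpowers z).map (QuotientGroup.mk' (commutator Q)) := by
          intro a
          obtain ⟨d, hd, hde⟩ := hmap.ge (hK a.2)
          replace hde : d⁻¹ * (a : Q) ∈ zpowers z := QuotientGroup.eq.1 hde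
          refine ⟨d⁻¹ * a, hde, ?_⟩
          rw [map_mul, map_inv, QuotientGroup.mk'_apply _ d, (QuotientGroup.eq_one_iff d).2 hd, inv_one,
            one_mul]
        have h1 := sl_to_two_group ho hp
          ((((QuotientGroup.mk' (commutator Q)).comp (K.comap π).subtype).codRestrict _ hmem).comp
            e.symm.toMonoidHom) (e ⟨x, hx⟩)
        simp only [MonoidHom.comp_apply, MulEquiv.coe_toMonoidHom, MulEquiv.symm_apply_apply] at h1
        exact (QuotientGroup.eq_one_iff x).1 (congrArg Subtype.val h1)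
      exact sup_le (key K₁ F₁ ho₁ e₁ h₁.le_comm) (key K₂ F₂ ho₂ e₂ h₂.le_comm)
    · have h0 : commutator Q ≤ (K₁ ⊔ K₂).comap π := Subgroup.map_le_iff_le_comap.1 (hsup ▸ hmap.le)
      refine h0.trans ?_
      rw [Subgroup.comap_sup_eq π K₁ K₂ (QuotientGroup.mk'_surjective _)]

end Cfsg.Agent.G2Cent
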