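import Cfsg.Agent.Lib.G2Cent.Model

/-!
The abelian case, and the data for the two sides.
-/

set_option autoImplicit false
set_option linter.unusedSectionVars false

open Subgroup

namespace Cfsg.Agent.G2Cent

open Cfsg.Agent.G2Type Cfsg.Agent.G2Type.Mdl

namespace Setting

variable {k : ℕ} [NeZero k] {J : Type*} [Group J] [Finite J]
  {μ : Mdl (4 * k) →* J} {H : Subgroup J} {T : Sylow 2 H} (M : Setting μ H T)
include M

theorem factor_comm (hk : k = 1) {F : Subgroup (Mdl (4 * k))} (e : M.S F ≃* DihedralGroup (2 * k)) :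
    ∀ a ∈ M.S F, ∀ b ∈ M.S F, a * b = b * a := by
  subst hk
  intro a ha b hb
  have h : ∀ x y : DihedralGroup (2 * 1), x * y = y * x := by decide
  exact congrArg Subtype.val (e.injective (by rw [map_mul, map_mul]; exact h _ _) :
    (⟨a, ha⟩ : M.S F) * ⟨b, hb⟩ = ⟨b, hb⟩ * ⟨a, ha⟩)

theorem T_comm (hk : k = 1) : ∀ a ∈ (T : Subgroup H), ∀ b ∈ (T : Subgroup H), a * b = b * a := by
  have hk' : k = 2 ^ 0 := by rw [hk, pow_zero]
  obtain ⟨e1⟩ := M.dihedral1 hk'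
  obtain ⟨e2⟩ := M.dihedral2 hk'
  intro a ha b hb
  obtain ⟨p, hp, q, hq, rfl⟩ := ProductFusion.mem_sup_of_commute M.prod.2.2.1 (M.prod.2.2.2.2.ge ha)
  obtain ⟨p', hp', q', hq', rfl⟩ := ProductFusion.mem_sup_of_commute M.prod.2.2.1 (M.prod.2.2.2.2.ge hb)
  have c1 : Commute p p' := M.factor_comm hk e1 p hp p' hp'
  have c2 : Commute q q' := M.factor_comm hk e2 q hq q' hq'
  have c3 : Commute p q' := M.commute hp hq'
  have c4 : Commute q p' := (M.commute hp' hq).symm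
  exact ((c1.mul_right c3).mul_left (c4.mul_right c2)).eq

/-- An odd power of an element normalizing the abelian Sylow subgroup centralizes it. -/
theorem odd_fix (hk : k = 1) {n : H} (hn : n ∈ normalizer ((T : Subgroup H) : Set H)) :
    ∃ i : ℕ, ∀ t ∈ (T : Subgroup H), n ^ (2 * i + 1) * t * (n ^ (2 * i + 1))⁻¹ = t := by
  have : Fact (Nat.Prime 2) := ⟨Nat.prime_two⟩
  set N := normalizer ((T : Subgroup H) : Set H) with hN
  set C := (centralizer ((T : Subgroup H) : Set H)).subgroupOf N with hC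
  have hCn : C.Normal := ⟨fun c hc g => mem_subgroupOf.2 (mem_centralizer_iff.2 fun t ht => by
    have h1 := mem_centralizer_iff.1 (mem_subgroupOf.1 hc) _
      ((mem_normalizer_iff.1 (inv_mem g.2) t).1 ht)
    simp only [inv_inv] at h1
    simp only [Subgroup.coe_mul, Subgroup.coe_inv]
    calc t * ((g : H) * c * (g : H)⁻¹) = g * ((g : H)⁻¹ * t * g * c) * (g : H)⁻¹ := by group
      _ = g * (c * ((g : H)⁻¹ * t * g)) * (g : H)⁻¹ := by rw [h1]
      _ = _ := by group)⟩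
  have hTC : (T : Subgroup H) ≤ centralizer ((T : Subgroup H) : Set H) := fun a ha =>
    mem_centralizer_iff.2 fun b hb => M.T_comm hk b hb a ha
  have hodd : Odd C.index := by
    refine (Nat.not_even_iff_odd.1 fun h => T.not_dvd_index h.two_dvd).of_dvd_nat ?_
    exact (relIndex_dvd_of_le_left N hTC).trans (Dvd.intro _ (relIndex_mul_index le_normalizer))
  obtain ⟨i, hi⟩ := hodd
  refine ⟨i, fun t ht => ?_⟩
  have := mem_centralizer_iff.1 (mem_subgroupOf.1 (C.pow_index_mem (⟨n, hn⟩ : N))) t ht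
  rw [hi] at this
  simp only [Subgroup.coe_pow] at this
  rw [← this, mul_inv_cancel_right]

/-- Elements normalizing the abelian Sylow subgroup normalize the factors. -/
theorem preserve (hk : k = 1) {n : H} (hn : n ∈ normalizer ((T : Subgroup H) : Set H)) :
    (∀ y ∈ M.S (Facts.fac1 k), n * y * n⁻¹ ∈ M.S (Facts.fac1 k)) ∧
      (∀ y ∈ M.S (Facts.fac2 k), n * y * n⁻¹ ∈ M.S (Facts.fac2 k)) := by
  classical
  have hk' : k = 2 ^ 0 := by rw [hk, pow_zero]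
  obtain ⟨e1⟩ := M.dihedral1 hk'
  obtain ⟨e2⟩ := M.dihedral2 hk'
  set S1 := M.S (Facts.fac1 k) with hS1
  set S2 := M.S (Facts.fac2 k) with hS2
  have P := M.prod
  have hc1 : Nat.card S1 = 4 := by rw [Nat.card_congr e1.toEquiv, DihedralGroup.nat_card, hk]
  have hc2 : Nat.card S2 = 4 := by rw [Nat.card_congr e2.toEquiv, DihedralGroup.nat_card, hk]
  have hsq : ∀ y : H, y ∈ S1 ∨ y ∈ S2 → y * y = 1 := by
    intro y hy
    subst hk
    have h : ∀ x : DihedralGroup (2 * 1), x * x = 1 := by decide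
    rcases hy with hy | hy
    · have := h (e1 ⟨y, hy⟩); rw [← map_mul, MulEquiv.map_eq_one_iff] at this
      exact congrArg Subtype.val this
    · have := h (e2 ⟨y, hy⟩); rw [← map_mul, MulEquiv.map_eq_one_iff] at this
      exact congrArg Subtype.val this
  have himg : ∀ n ∈ normalizer ((T : Subgroup H) : Set H), ∀ y, y ∈ S1 ∨ y ∈ S2 →
      n * y * n⁻¹ ∈ S1 ∨ n * y * n⁻¹ ∈ S2 := by
    intro n hn y hy
    rcases eq_or_ne y 1 with rfl | hy1
    · exact Or.inl (by rw [mul_one, mul_inv_cancel]; exact one_mem _)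
    obtain ⟨x', hx', ex'⟩ := (M.range _).1 ((mem_normalizer_iff.1 hn y).1 (hy.elim (P.1 ·) (P.2.1 ·)))
    refine M.mem_or hx' ex' ?_ fun h => ?_
    · rw [show n * y * n⁻¹ * (n * y * n⁻¹) = n * (y * y) * n⁻¹ by group, hsq y hy, mul_one, mul_inv_cancel]
    obtain ⟨x, hxF, ex⟩ : ∃ x, (x ∈ Facts.fac1 k ∨ x ∈ Facts.fac2 k) ∧ μ x = (y : J) := by
      rcases hy with ⟨x, hx, ex⟩ | ⟨x, hx, ex⟩
      · exact ⟨x, Or.inl hx, ex⟩
      · exact ⟨x, Or.inr hx, ex⟩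
    refine M.lift_ne hxF (fun h' => hy1 (Subtype.ext (ex.symm.trans h'))) (M.sq x' x ?_ h)
    refine isConj_iff.2 ⟨(n : J)⁻¹, ?_⟩
    rw [ex', ex, Subgroup.coe_mul, Subgroup.coe_mul, Subgroup.coe_inv]
    group
  -- each image lies in one factor
  have hone : ∀ n ∈ normalizer ((T : Subgroup H) : Set H), ∀ A : Subgroup H, (A = S1 ∨ A = S2) →
      (∀ y ∈ A, n * y * n⁻¹ ∈ S1) ∨ (∀ y ∈ A, n * y * n⁻¹ ∈ S2) := by
    intro n hn A hA
    by_contra hcon
    push Not at hcon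
    obtain ⟨⟨u, hu, hu1⟩, ⟨v, hv, hv2⟩⟩ := hcon
    have hAm : ∀ y ∈ A, y ∈ S1 ∨ y ∈ S2 := fun y hy => by
      rcases hA with h | h
      · exact Or.inl (h ▸ hy)
      · exact Or.inr (h ▸ hy)
    have hu2 := (himg n hn u (hAm u hu)).resolve_left hu1
    have hv1 := (himg n hn v (hAm v hv)).resolve_right hv2
    have e : n * (u * v) * n⁻¹ = n * u * n⁻¹ * (n * v * n⁻¹) := by group
    rcases himg n hn _ (hAm _ (mul_mem hu hv)) with h | h <;> rw [e] at h
    · exact hu1 ((Subgroup.mul_mem_cancel_right _ hv1).1 h)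
    · exact hv2 ((Subgroup.mul_mem_cancel_left _ hu2).1 h)
  have hsurj : ∀ (A B : Subgroup H) (n : H), Nat.card A = 4 → Nat.card B = 4 → (∀ y ∈ A, n * y * n⁻¹ ∈ B) →
      ∀ z ∈ B, n⁻¹ * z * n ∈ A := by
    intro A B n hA hB h z hz
    have hle : A.map (MulAut.conj n).toMonoidHom ≤ B := by
      rintro _ ⟨y, hy, rfl⟩; exact h y hy
    obtain ⟨y, hy, rfl⟩ := (Subgroup.eq_of_le_of_card_ge hle (by
      rw [hB, Subgroup.card_map_of_injective (MulAut.conj n).injective, hA])).ge hz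
    simpa [mul_assoc] using hy
  have hd : ∀ x, x ∈ S1 → x ∈ S2 → x = 1 := fun x h1 h2 => M.disjoint h1 h2
  obtain ⟨a, ha, ha1⟩ : ∃ a ∈ S1, a ≠ 1 := by
    by_contra h
    push Not at h
    rw [(eq_bot_iff_forall S1).2 h, card_bot] at hc1
    norm_num at hc1
  -- no swapping
  have hno : ∀ n ∈ normalizer ((T : Subgroup H) : Set H), ∀ y ∈ S1, n * y * n⁻¹ ∈ S1 := by
    intro n hn
    rcases hone n hn S1 (Or.inl rfl) with h | h
    · exact h
    exfalso
    have h' : ∀ y ∈ S2, n * y * n⁻¹ ∈ S1 := by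
      rcases hone n hn S2 (Or.inr rfl) with h2 | h2
      · exact h2
      exfalso
      have := hsurj S2 S2 n hc2 hc2 h2 _ (h a ha)
      rw [show n⁻¹ * (n * a * n⁻¹) * n = a by group] at this
      exact ha1 (hd a ha this)
    have heven : ∀ i : ℕ, ∀ y ∈ S1, n ^ (2 * i) * y * (n ^ (2 * i))⁻¹ ∈ S1 := by
      intro i
      induction i with
      | zero => intro y hy; simpa using hy
      | succ i ih =>
        intro y hy
        rw [show n ^ (2 * (i + 1)) = n * n * n ^ (2 * i) by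
          rw [show 2 * (i + 1) = 2 + 2 * i by ring, pow_add, pow_two],
          show n * n * n ^ (2 * i) * y * (n * n * n ^ (2 * i))⁻¹ =
            n * (n * (n ^ (2 * i) * y * (n ^ (2 * i))⁻¹) * n⁻¹) * n⁻¹ by group]
        exact h' _ (h _ (ih y hy))
    obtain ⟨i, hi⟩ := M.odd_fix hk hn
    have h3 : n ^ (2 * i + 1) * a * (n ^ (2 * i + 1))⁻¹ ∈ S2 := by
      rw [show n ^ (2 * i + 1) = n * n ^ (2 * i) from pow_succ' n (2 * i),
        show n * n ^ (2 * i) * a * (n * n ^ (2 * i))⁻¹ = n * (n ^ (2 * i) * a * (n ^ (2 * i))⁻¹) * n⁻¹ by group]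
      exact h _ (heven i a ha)
    rw [hi a (P.1 ha)] at h3
    exact ha1 (hd a ha h3)
  refine ⟨hno n hn, ?_⟩
  rcases hone n hn S2 (Or.inr rfl) with h | h
  · exfalso
    obtain ⟨b, hb, hb1⟩ : ∃ b ∈ S2, b ≠ 1 := by
      by_contra h
      push Not at h
      rw [(eq_bot_iff_forall S2).2 h, card_bot] at hc2
      norm_num at hc2
    have := hsurj S1 S1 n hc1 hc1 (hno n hn) _ (h b hb)
    rw [show n⁻¹ * (n * b * n⁻¹) * n = b by group] at this
    exact hb1 (hd b this hb)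
  · exact h

/-- Burnside fusion in the abelian Sylow subgroup. -/
theorem burnside (hk : k = 1) {y g : H} (hy : y ∈ (T : Subgroup H)) (hg : g * y * g⁻¹ ∈ (T : Subgroup H)) :
    ∃ n ∈ normalizer ((T : Subgroup H) : Set H), n * y * n⁻¹ = g * y * g⁻¹ := by
  have : Fact (Nat.Prime 2) := ⟨Nat.prime_two⟩
  obtain ⟨n, hn, he⟩ := Transfer.Fusion.burnside_fusion_set T (X := {y}) (Y := {g * y * g⁻¹}) (g := g)
    (fun x hx => by rw [Set.image_singleton, M.T_comm hk x hx y hy, mul_inv_cancel_right])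
    (fun x hx => by rw [Set.image_singleton, M.T_comm hk x hx _ hg, mul_inv_cancel_right])
    (Set.image_singleton)
  rw [Set.image_singleton] at he
  exact ⟨n, hn, Set.singleton_eq_singleton_iff.1 he⟩

/-- Strongly closed factors, abelian case. -/
theorem pair_small (hk : k = 1) : Pair T (M.S (Facts.fac1 k)) (M.S (Facts.fac2 k)) := by
  refine ⟨M.core, M.prod, ⟨M.prod.1, fun y hy g hg => ?_⟩, ⟨M.prod.2.1, fun y hy g hg => ?_⟩⟩
  · obtain ⟨n, hn, he⟩ := M.burnside hk (M.prod.1 hy) hg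
    exact he ▸ (M.preserve hk hn).1 y hy
  · obtain ⟨n, hn, he⟩ := M.burnside hk (M.prod.2.1 hy) hg
    exact he ▸ (M.preserve hk hn).2 y hy

theorem pair {ε : ℕ} (hk : k = 2 ^ ε) : Pair T (M.S (Facts.fac1 k)) (M.S (Facts.fac2 k)) := by
  rcases Nat.lt_or_ge k 2 with h | h
  · exact M.pair_small (by have := NeZero.pos k; omega)
  · exact M.pair_big hk h

/-- For `k = 1` a normalizing element rotates one factor and fixes the other. -/
theorem rotation (hk : k = 1) (A B : Subgroup (Mdl (4 * k))) (a b : Mdl (4 * k))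
    (hAB : (A = Facts.fac1 k ∧ B = Facts.fac2 k ∧ a = Facts.z1 k ∧ b = Facts.z2 k) ∨
      (A = Facts.fac2 k ∧ B = Facts.fac1 k ∧ a = Facts.z2 k ∧ b = Facts.z1 k))
    {x : Mdl (4 * k)} (hx : x ∈ A) (hx1 : μ x ≠ 1) (hxa : μ x ≠ μ a) :
    ∃ η : H, (∀ y ∈ M.S B, η * y = y * η) ∧ ∃ r ∈ M.S A, η * r * η⁻¹ ≠ r := by
  classical
  have hk' : k = 2 ^ 0 := by rw [hk, pow_zero]
  have P := M.pair hk'
  have hA : A ≤ Facts.even k := by
    rcases hAB with ⟨rfl, -⟩ | ⟨rfl, -⟩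
    exacts [Facts.fac1_le, Facts.fac2_le]
  have hB : B ≤ Facts.even k := by
    rcases hAB with ⟨-, rfl, -⟩ | ⟨-, rfl, -⟩
    exacts [Facts.fac2_le, Facts.fac1_le]
  have haA : a ∈ A := by
    rcases hAB with ⟨rfl, -, rfl, -⟩ | ⟨rfl, -, rfl, -⟩
    exacts [Facts.z1_mem, Facts.z2_mem]
  have hbB : b ∈ B := by
    rcases hAB with ⟨-, rfl, -, rfl⟩ | ⟨-, rfl, -, rfl⟩
    exacts [Facts.z2_mem, Facts.z1_mem]
  have hab : μ a * μ b = μ (eE k) := by
    rcases hAB with ⟨rfl, rfl, rfl, rfl⟩ | ⟨rfl, rfl, rfl, rfl⟩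
    · exact M.μ_z1z2
    · rw [← map_mul, ← Facts.commute_fac Facts.z1_mem Facts.z2_mem, map_mul]; exact M.μ_z1z2
  have P' : Pair T (M.S A) (M.S B) := by
    rcases hAB with ⟨rfl, rfl, -⟩ | ⟨rfl, rfl, -⟩
    exacts [P, P.symm]
  have hFA : A ≤ Facts.fac1 k ∨ A ≤ Facts.fac2 k := by
    rcases hAB with ⟨rfl, -⟩ | ⟨rfl, -⟩
    exacts [Or.inl le_rfl, Or.inr le_rfl]
  have hb2 : b * b = zE k := by
    rcases hAB with ⟨-, -, -, rfl⟩ | ⟨-, -, -, rfl⟩
    exacts [Facts.z2_sq, Facts.z1_sq]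
  have hb1 : μ b ≠ 1 := by
    rcases hAB with ⟨-, -, -, rfl⟩ | ⟨-, -, -, rfl⟩
    exacts [M.μz2_ne, M.μz1_ne]
  have hxb : x * b = b * x := by
    rcases hAB with ⟨rfl, rfl, -⟩ | ⟨rfl, rfl, -⟩
    · exact Facts.commute_fac hx hbB
    · exact (Facts.commute_fac hbB hx).symm
  have hcardB : Nat.card (M.S B) = 4 ∧ ∀ y ∈ M.S A, y * y = 1 := by
    obtain ⟨e1⟩ := M.dihedral1 hk'
    obtain ⟨e2⟩ := M.dihedral2 hk'
    subst hk
    have h : ∀ z : DihedralGroup (2 * 1), z * z = 1 := by decide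
    rcases hAB with ⟨rfl, rfl, -⟩ | ⟨rfl, rfl, -⟩
    · refine ⟨by rw [Nat.card_congr e2.toEquiv, DihedralGroup.nat_card], fun y hy => ?_⟩
      have := h (e1 ⟨y, hy⟩); rw [← map_mul, MulEquiv.map_eq_one_iff] at this
      exact congrArg Subtype.val this
    · refine ⟨by rw [Nat.card_congr e1.toEquiv, DihedralGroup.nat_card], fun y hy => ?_⟩
      have := h (e2 ⟨y, hy⟩); rw [← map_mul, MulEquiv.map_eq_one_iff] at this
      exact congrArg Subtype.val this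
  obtain ⟨Za, hZa⟩ := M.exists_elt (hA haA)
  obtain ⟨Zb, hZb⟩ := M.exists_elt (hB hbB)
  obtain ⟨r, hr⟩ := M.exists_elt (hA hx)
  have hZaS : Za ∈ M.S A := ⟨a, haA, hZa.symm⟩
  have hZbS : Zb ∈ M.S B := ⟨b, hbB, hZb.symm⟩
  have hrS : r ∈ M.S A := ⟨x, hx, hr.symm⟩
  have hrne : μ x * μ b ≠ 1 := fun h => hx1 (by
    have h' : r * Zb = 1 := Subtype.ext (by rw [Subgroup.coe_mul, hr, hZb]; exact h)
    have h1 : r = 1 := P'.eq_one_of_mem hrS (by rw [eq_inv_of_mul_eq_one_left h']; exact inv_mem hZbS)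
    rw [← hr, h1, Subgroup.coe_one])
  have hx2 : x * x = zE k := by
    refine ((M.ker _).1 ?_).resolve_left (M.lift_ne (hFA.imp (fun h => h hx) fun h => h hx) hx1)
    rw [map_mul, ← hr, ← Subgroup.coe_mul, hcardB.2 r hrS, Subgroup.coe_one]
  have hsq : x * b * (x * b) = 1 := by
    calc x * b * (x * b) = x * (b * x) * b := by group
      _ = x * (x * b) * b := by rw [← hxb]
      _ = x * x * (b * b) := by group
      _ = 1 := by rw [hx2, hb2, zE_sq]
  obtain ⟨h, hh, he⟩ := M.fus (x * b) (mul_mem (hA hx) (hB hbB)) hsq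
    (fun e => hrne (by rw [← map_mul, e, map_one])) (fun e => hrne (by rw [← map_mul, e, M.μz]))
  have e0 : (⟨h, hh⟩ : H) * (r * Zb) * ⟨h, hh⟩⁻¹ = Za * Zb := Subtype.ext (by
    simp only [Subgroup.coe_mul, Subgroup.coe_inv, hr, hZb, hZa, hab, ← map_mul, he])
  obtain ⟨n, hn, hne⟩ := M.burnside hk (y := r * Zb) (g := ⟨h, hh⟩)
    (mul_mem (P'.prod.1 hrS) (P'.prod.2.1 hZbS)) (e0.symm ▸ mul_mem (P'.prod.1 hZaS) (P'.prod.2.1 hZbS))
  have hpres : (∀ y ∈ M.S A, n * y * n⁻¹ ∈ M.S A) ∧ (∀ y ∈ M.S B, n * y * n⁻¹ ∈ M.S B) := by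
    rcases hAB with ⟨rfl, rfl, -⟩ | ⟨rfl, rfl, -⟩
    exacts [M.preserve hk hn, (M.preserve hk hn).symm]
  obtain ⟨hnr, hnb⟩ := P'.conj_factor hrS hZbS hZaS hZbS (hne.trans e0)
  refine ⟨n, fun y hy => ?_, r, hrS, fun e => hxa (by rw [← hr, ← hZa, ← hnr, e])⟩
  -- `n` fixes one involution of the other factor, hence all
  suffices hfix : n * y * n⁻¹ = y from mul_inv_eq_iff_eq_mul.1 hfix
  have hcase : ∀ u ∈ M.S B, u = 1 ∨ u = Zb ∨ u = y ∨ u = Zb * y ∨ y = 1 ∨ y = Zb := by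
    intro u hu
    by_cases hy1 : y = 1
    · exact Or.inr (Or.inr (Or.inr (Or.inr (Or.inl hy1))))
    by_cases hyb : y = Zb
    · exact Or.inr (Or.inr (Or.inr (Or.inr (Or.inr hyb))))
    have hZb1 : Zb ≠ 1 := fun h => hb1 (by rw [← hZb, h, Subgroup.coe_one])
    obtain ⟨e⟩ : Nonempty (M.S B ≃* DihedralGroup (2 * k)) := by
      rcases hAB with ⟨-, rfl, -⟩ | ⟨-, rfl, -⟩
      exacts [M.dihedral2 hk', M.dihedral1 hk']
    subst hk
    have key : ∀ p q w : DihedralGroup (2 * 1), p ≠ 1 → q ≠ 1 → p ≠ q → w = 1 ∨ w = p ∨ w = q ∨ w = p * q := by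
      decide
    have h4 := key (e ⟨Zb, hZbS⟩) (e ⟨y, hy⟩) (e ⟨u, hu⟩)
      (fun h => hZb1 (congrArg Subtype.val ((MulEquiv.map_eq_one_iff e).1 h)))
      (fun h => hy1 (congrArg Subtype.val ((MulEquiv.map_eq_one_iff e).1 h)))
      (fun h => hyb (congrArg Subtype.val (e.injective h)).symm)
    rw [← map_mul] at h4
    rcases h4 with h | h | h | h
    · exact Or.inl (congrArg Subtype.val ((MulEquiv.map_eq_one_iff e).1 h))
    · exact Or.inr (Or.inl (congrArg Subtype.val (e.injective h)))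
    · exact Or.inr (Or.inr (Or.inl (congrArg Subtype.val (e.injective h))))
    · exact Or.inr (Or.inr (Or.inr (Or.inl (congrArg Subtype.val (e.injective h)))))
  rcases hcase _ (hpres.2 y hy) with h1 | h1 | h1 | h1 | h1 | h1
  · rw [h1, conj_eq_one_iff.1 h1]
  · rw [h1, ← mul_left_cancel (mul_right_cancel (h1.trans hnb.symm))] 
  · exact h1
  · exfalso
    have hy2 : y ≠ n * y * n⁻¹ := fun e => by
      rw [h1] at e
      exact hb1 (by rw [← hZb, mul_eq_right.1 e.symm, Subgroup.coe_one])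
    have hstep : ∀ i : ℕ, n ^ (2 * i) * y * (n ^ (2 * i))⁻¹ = y := by
      intro i
      induction i with
      | zero => group
      | succ i ih =>
        rw [show n ^ (2 * (i + 1)) = n * n * n ^ (2 * i) by
          rw [show 2 * (i + 1) = 2 + 2 * i by ring, pow_add, pow_two]]
        calc n * n * n ^ (2 * i) * y * (n * n * n ^ (2 * i))⁻¹
            = n * (n * (n ^ (2 * i) * y * (n ^ (2 * i))⁻¹) * n⁻¹) * n⁻¹ := by group
          _ = n * (Zb * y) * n⁻¹ := by rw [ih, h1]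
          _ = n * Zb * n⁻¹ * (n * y * n⁻¹) := by group
          _ = y := by
            rw [hnb, h1, ← mul_assoc, show Zb * Zb = 1 from Subtype.ext (by
              rw [Subgroup.coe_mul, hZb, ← map_mul, hb2, M.μz, Subgroup.coe_one]), one_mul]
    obtain ⟨i, hi⟩ := M.odd_fix hk hn
    refine hy2 ((hi y (P'.prod.2.1 hy)).symm.trans ?_)
    calc n ^ (2 * i + 1) * y * (n ^ (2 * i + 1))⁻¹ = n * (n ^ (2 * i) * y * (n ^ (2 * i))⁻¹) * n⁻¹ := by
          rw [pow_succ']; group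
      _ = n * y * n⁻¹ := by rw [hstep]
  · subst h1; group
  · rw [h1, hnb]

theorem conj_μ {F : Subgroup (Mdl (4 * k))} (hF : ∀ x ∈ F, Facts.cE k * x * (Facts.cE k)⁻¹ ∈ F)
    (hFe : F ≤ Facts.even k) :
    ∀ s ∈ M.S F, ∃ s' ∈ M.S F, μ (Facts.cE k) * (s : J) * (μ (Facts.cE k))⁻¹ = (s' : J) := by
  rintro s ⟨x, hx, ex⟩
  obtain ⟨s', hs'⟩ := M.exists_elt (hFe (hF x hx))
  refine ⟨s', ⟨_, hF x hx, hs'.symm⟩, ?_⟩
  rw [← show μ x = (s : J) from ex, ← map_inv, ← map_mul, ← map_mul, hs']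

theorem ne_of_μ {x y : Mdl (4 * k)} (h1 : x ≠ y) (h2 : x ≠ y * zE k) : μ x ≠ μ y := fun h =>
  (M.eq_or_of_μ h).elim h1 h2

theorem k_one_of_comm {ε : ℕ} (hk : k = 2 ^ ε) {F : Subgroup (Mdl (4 * k))}
    (e : M.S F ≃* DihedralGroup (2 * k)) (hab : ∀ a ∈ M.S F, ∀ b ∈ M.S F, a * b = b * a) : k = 1 := by
  have h' : ∀ x y : DihedralGroup (2 * k), x * y = y * x := fun x y => e.symm.injective (by
    rw [map_mul, map_mul]
    exact Subtype.ext (hab _ (e.symm x).2 _ (e.symm y).2))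
  have h1 := h' (DihedralGroup.r 1) (DihedralGroup.sr 0)
  simp only [DihedralGroup.r_mul_sr, DihedralGroup.sr_mul_r, DihedralGroup.sr.injEq, zero_sub, zero_add] at h1
  have h2 : ((2 : ℕ) : ZMod (2 * k)) = 0 := by push_cast; linear_combination -h1
  have := Nat.le_of_dvd two_pos ((ZMod.natCast_eq_zero_iff _ _).1 h2)
  have := NeZero.pos k
  omega

theorem factor1 {ε : ℕ} (hk : k = 2 ^ ε) :
    Factor H (M.S (Facts.fac1 k)) (M.S (Facts.fac2 k)) (μ (Facts.cE k)) := by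
  obtain ⟨e⟩ := M.dihedral1 hk
  obtain ⟨Z, hZ⟩ := M.exists_elt (Facts.fac1_le Facts.z1_mem)
  have hk0 := NeZero.pos k
  refine ⟨⟨2 * k, by omega, ⟨e⟩⟩, fun a ha r hr ha2 hr2 =>
    (M.fuse1 (M.pair hk) Z hZ ha ha2).trans (M.fuse1 (M.pair hk) Z hZ hr hr2).symm,
    M.conj_μ (fun x hx => Facts.cE_conj_fac1 hx) Facts.fac1_le, fun hab => ?_, fun hab => ?_⟩
  · obtain ⟨r, hr⟩ := M.exists_elt (Facts.fac1_le Facts.ref1_mem)
    have hcz : Facts.cE k * Facts.z1 k * (Facts.cE k)⁻¹ = Facts.z1 k := by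
      ext <;> simp [Facts.cE, Facts.z1, act1, act2]
    refine ⟨M.rotation (M.k_one_of_comm hk e hab) _ _ _ _ (Or.inl ⟨rfl, rfl, rfl, rfl⟩) Facts.ref1_mem ?_ ?_,
      ⟨Z, ⟨_, Facts.z1_mem, hZ.symm⟩, fun h => M.μz1_ne (by rw [← hZ, h, Subgroup.coe_one]), ?_⟩,
      r, ⟨_, Facts.ref1_mem, hr.symm⟩, ?_⟩
    · rw [Ne, M.ker]; rintro (h | h) <;> simpa [Facts.ref1, zE] using congrArg Mdl.j h
    · exact M.ne_of_μ (fun h => by simpa [Facts.ref1, Facts.z1] using congrArg Mdl.j h)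
        (fun h => by simpa [Facts.ref1, Facts.z1, zE] using congrArg Mdl.j h)
    · rw [hZ, ← map_inv, ← map_mul, ← map_mul, hcz]
    · rw [hr, ← map_inv, ← map_mul, ← map_mul]
      exact M.ne_of_μ Facts.cE_ref1_ne.1 Facts.cE_ref1_ne.2
  · have hk2 : 2 ≤ k := by
      by_contra h
      exact hab (M.factor_comm (by omega) e)
    obtain ⟨r, hr⟩ := M.exists_elt (Facts.fac1_le Facts.ref1_mem)
    refine ⟨r, ⟨_, Facts.ref1_mem, hr.symm⟩, Subtype.ext ?_, ?_⟩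
    · rw [Subgroup.coe_mul, hr, ← map_mul, Facts.ref1_sq, M.μz, Subgroup.coe_one]
    · rw [hr, ← map_inv, ← map_mul, ← map_mul, ← map_mul, ← map_mul, Ne, M.ker]
      exact Facts.swap1 hk2

theorem factor2 {ε : ℕ} (hk : k = 2 ^ ε) :
    Factor H (M.S (Facts.fac2 k)) (M.S (Facts.fac1 k)) (μ (Facts.cE k)) := by
  obtain ⟨e⟩ := M.dihedral2 hk
  obtain ⟨Z, hZ⟩ := M.exists_elt (Facts.fac2_le Facts.z2_mem)
  have hk0 := NeZero.pos k
  refine ⟨⟨2 * k, by omega, ⟨e⟩⟩, fun a ha r hr ha2 hr2 =>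
    (M.fuse2 (M.pair hk) Z hZ ha ha2).trans (M.fuse2 (M.pair hk) Z hZ hr hr2).symm,
    M.conj_μ (fun x hx => Facts.cE_conj_fac2 hx) Facts.fac2_le, fun hab => ?_, fun hab => ?_⟩
  · obtain ⟨r, hr⟩ := M.exists_elt (Facts.fac2_le Facts.ref2_mem)
    have hcz : Facts.cE k * Facts.z2 k * (Facts.cE k)⁻¹ = Facts.z2 k * zE k := by
      ext <;> simp [Facts.cE, Facts.z2, zE, act1, act2, neg_hh] <;> ring
    refine ⟨M.rotation (M.k_one_of_comm hk e hab) _ _ _ _ (Or.inr ⟨rfl, rfl, rfl, rfl⟩) Facts.ref2_mem ?_ ?_,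
      ⟨Z, ⟨_, Facts.z2_mem, hZ.symm⟩, fun h => M.μz2_ne (by rw [← hZ, h, Subgroup.coe_one]), ?_⟩,
      r, ⟨_, Facts.ref2_mem, hr.symm⟩, ?_⟩
    · rw [Ne, M.ker]; rintro (h | h) <;> simpa [Facts.ref2, zE] using congrArg Mdl.i h
    · exact M.ne_of_μ (fun h => by simpa [Facts.ref2, Facts.z2] using congrArg Mdl.i h)
        (fun h => by simpa [Facts.ref2, Facts.z2, zE] using congrArg Mdl.i h)
    · rw [hZ, ← map_inv, ← map_mul, ← map_mul, hcz, map_mul, M.μz, mul_one]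
    · rw [hr, ← map_inv, ← map_mul, ← map_mul]
      exact M.ne_of_μ Facts.cE_ref2_ne.1 Facts.cE_ref2_ne.2
  · have hk2 : 2 ≤ k := by
      by_contra h
      exact hab (M.factor_comm (by omega) e)
    obtain ⟨r, hr⟩ := M.exists_elt (Facts.fac2_le Facts.ref2_mem)
    refine ⟨r, ⟨_, Facts.ref2_mem, hr.symm⟩, Subtype.ext ?_, ?_⟩
    · rw [Subgroup.coe_mul, hr, ← map_mul, Facts.ref2_sq, M.μz, Subgroup.coe_one]
    · rw [hr, ← map_inv, ← map_mul, ← map_mul, ← map_mul, ← map_mul, Ne, M.ker]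
      exact Facts.swap2 hk2

end Setting

end Cfsg.Agent.G2Cent
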