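import Cfsg.Agent.Lib.G2Cent.Central
import Cfsg.Agent.Lib.G2Cent.Small
import Cfsg.Agent.Lib.G2Cent.Lift

/-!
The centralizer of the central involution modulo its odd core.
-/

set_option autoImplicit false
set_option linter.unusedSectionVars false

open Subgroup

namespace Cfsg.Agent.G2Cent

theorem zmod_two_cases : ∀ a : Multiplicative (ZMod 2), a = 1 ∨ a = Multiplicative.ofAdd 1 := by decide

open Cfsg.Agent.G2Type Cfsg.Agent.G2Type.Mdl

variable {G : Type*} [Group G] [Finite G] {k : ℕ} [NeZero k]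

/-- The centralizer modulo core has two commuting special linear subgroups with product the derived group. -/
theorem main {ε : ℕ} (hk : k = 2 ^ ε) (ι : Mdl (4 * k) →* G) (S : Sylow 2 G)
    (hr : ι.range = (S : Subgroup G)) (hi : Function.Injective ι)
    (h1 : ∀ x y : G, orderOf x = 2 → orderOf y = 2 → IsConj x y) :
    ∃ L₁ L₂ : Subgroup (↥(cz ι) ⧸ Cfsg.oddCore ↥(cz ι)), L₁.Normal ∧ L₂.Normal ∧
      (∃ (F₁ : Type) (_ : Field F₁) (_ : Fintype F₁), Odd (Fintype.card F₁) ∧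
        Nonempty (↥L₁ ≃* Matrix.SpecialLinearGroup (Fin 2) F₁)) ∧
      (∃ (F₂ : Type) (_ : Field F₂) (_ : Fintype F₂), Odd (Fintype.card F₂) ∧
        Nonempty (↥L₂ ≃* Matrix.SpecialLinearGroup (Fin 2) F₂)) ∧
      ⁅L₁, L₂⁆ = ⊥ ∧ L₁ ⊔ L₂ = commutator _ := by
  classical
  have : Fact (Nat.Prime 2) := ⟨Nat.prime_two⟩
  obtain ⟨χ, hχ⟩ := exists_hom ι S hr hi h1 hk
  set O := Cfsg.oddCore (cz ι) with hO
  set ν : Mdl (4 * k) →* cz ι ⧸ O := (QuotientGroup.mk' O).comp (ιC ι) with hν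
  have hp : IsPGroup 2 (Mdl (4 * k)) := IsPGroup.of_card (n := 2 * ε + 6) (by
    rw [card_eq, hk, show 4 * (4 * 2 ^ ε) ^ 2 = 2 ^ (2 * ε + 6) by rw [pow_add, pow_mul']; ring])
  have hodd : Odd (Nat.card O) := Cores.oddCore_odd (G := cz ι)
  have hνi : Function.Injective ν := by
    rw [injective_iff_map_eq_one]
    intro x hx
    have hxO : ιC ι x ∈ O := (QuotientGroup.eq_one_iff _).1 hx
    obtain ⟨j, hj⟩ := IsPGroup.iff_orderOf.1 hp x
    have h2 := Subgroup.orderOf_dvd_natCard O hxO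
    have h3 : orderOf (ιC ι x) = 2 ^ j := by
      rw [← Subgroup.orderOf_coe, coe_ιC, orderOf_injective ι hi, hj]
    rw [h3] at h2
    refine orderOf_eq_one_iff.1 (hj.trans ?_)
    exact Nat.eq_one_of_dvd_coprimes (Nat.Coprime.pow_left j (Nat.coprime_two_left.2 hodd)) dvd_rfl h2
  set zb := ν (zE k) with hzb
  have hz : orderOf zb = 2 := by
    rw [hzb, orderOf_injective ν hνi]
    exact orderOf_eq_prime (by rw [pow_two, zE_sq]) zE_ne
  have hzc : zb ∈ center (cz ι ⧸ O) := by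
    rw [mem_center_iff]
    intro g
    induction g using QuotientGroup.induction_on with | H d => ?_
    show (QuotientGroup.mk' O) d * (QuotientGroup.mk' O) (ιC ι (zE k)) = (QuotientGroup.mk' O) (ιC ι (zE k)) * (QuotientGroup.mk' O) d
    rw [← map_mul, ← map_mul]
    congr 1
    exact Subtype.ext (mem_centralizer_singleton_iff.1 d.2)
  have : (zpowers zb).Normal := ⟨fun c hc g => by
    rw [mem_center_iff.1 ((zpowers_le.2 hzc : zpowers zb ≤ _) hc) g, mul_assoc, mul_inv_cancel, mul_one]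
    exact hc⟩
  set π : cz ι →* (cz ι ⧸ O) ⧸ zpowers zb := (QuotientGroup.mk' (zpowers zb)).comp (QuotientGroup.mk' O) with hπ
  have hπs : Function.Surjective π := (QuotientGroup.mk'_surjective _).comp (QuotientGroup.mk'_surjective _)
  set μ : Mdl (4 * k) →* (cz ι ⧸ O) ⧸ zpowers zb := π.comp (ιC ι) with hμ
  have hμν : ∀ x, μ x = (ν x : (cz ι ⧸ O) ⧸ zpowers zb) := fun _ => rfl
  have hzmem : ∀ w ∈ zpowers zb, w = 1 ∨ w = zb := by
    intro w hw
    obtain ⟨i, -, rfl⟩ := (isOfFinOrder_of_finite zb).mem_zpowers_iff_mem_range_orderOf.trans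
      Finset.mem_image |>.1 hw
    have e : zb ^ i = zb ^ (i % 2) := by rw [← pow_mod_orderOf zb i, hz]
    have : i % 2 = 0 ∨ i % 2 = 1 := by omega
    rcases this with h | h <;> rw [h] at e
    · exact Or.inl (e.trans (pow_zero _))
    · exact Or.inr (e.trans (pow_one _))
  have hker : ∀ x, μ x = 1 ↔ x = 1 ∨ x = zE k := by
    intro x
    rw [hμν, QuotientGroup.eq_one_iff]
    constructor
    · intro h
      rcases hzmem _ h with e | e
      · exact Or.inl (hνi (e.trans (map_one ν).symm))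
      · exact Or.inr (hνi e)
    · rintro (rfl | rfl)
      · rw [map_one]; exact one_mem _
      · exact mem_zpowers _
  -- the kernel of the parity
  have hOχ : ∀ d ∈ O, χ d = 1 := by
    intro d hd
    have h2 : Odd (orderOf d) := hodd.of_dvd_nat (Subgroup.orderOf_dvd_natCard O hd)
    obtain ⟨i, hi'⟩ := h2
    have h3 : χ d ^ (2 * i + 1) = 1 := by rw [← map_pow, ← hi', pow_orderOf_eq_one, map_one]
    rwa [pow_succ, pow_mul, pow_two, mul_self_two, one_pow, one_mul] at h3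
  have hzχ : χ (ιC ι (zE k)) = 1 := by rw [hχ, parHom_apply]; simp [zE]
  set C₀ := χ.ker with hC₀
  set H : Subgroup ((cz ι ⧸ O) ⧸ zpowers zb) := C₀.map π with hH
  have hπker : π.ker ≤ C₀ := by
    intro d hd
    rw [MonoidHom.mem_ker] at hd
    have hd' : QuotientGroup.mk' O d ∈ zpowers zb := (QuotientGroup.eq_one_iff _).1 hd
    rw [hC₀, MonoidHom.mem_ker]
    rcases hzmem _ hd' with e | e
    · exact hOχ d ((QuotientGroup.eq_one_iff d).1 e)
    · have : (ιC ι (zE k))⁻¹ * d ∈ O := QuotientGroup.eq.1 e.symm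
      have h4 := hOχ _ this
      rwa [map_mul, map_inv, hzχ, inv_one, one_mul] at h4
  have hmemH : ∀ d, π d ∈ H ↔ χ d = 1 := by
    intro d
    constructor
    · rintro ⟨d', hd', e⟩
      have h4 := hπker (show d'⁻¹ * d ∈ π.ker by rw [MonoidHom.mem_ker, map_mul, map_inv, e, inv_mul_cancel])
      rw [hC₀, MonoidHom.mem_ker, map_mul, map_inv, MonoidHom.mem_ker.1 hd', inv_one, one_mul] at h4
      exact h4
    · intro h; exact ⟨d, h, rfl⟩
  have hHn : H.Normal := (MonoidHom.normal_ker χ).map π hπs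
  have hmem : ∀ x, μ x ∈ H ↔ x ∈ Facts.even k := by
    intro x
    show π (ιC ι x) ∈ H ↔ _
    rw [hmemH, hχ, parHom_apply, Facts.mem_even]
    exact ⟨fun h => Multiplicative.ofAdd.injective h, fun h => by rw [h]; rfl⟩
  set c := μ (Facts.cE k) with hc
  have hcχ : χ (ιC ι (Facts.cE k)) = Multiplicative.ofAdd 1 := by rw [hχ, parHom_cE]
  have htwo := zmod_two_cases
  have hJ : ∀ g, g ∈ H ∨ g * c⁻¹ ∈ H := by
    intro g
    obtain ⟨d, rfl⟩ := hπs g
    rcases htwo (χ d) with h | h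
    · exact Or.inl ((hmemH d).2 h)
    · right
      rw [show π d * c⁻¹ = π (d * (ιC ι (Facts.cE k))⁻¹) by rw [map_mul, map_inv]; rfl, hmemH, map_mul,
        map_inv, h, hcχ, mul_inv_cancel]
  have hcomm : commutator ((cz ι ⧸ O) ⧸ zpowers zb) ≤ H := by
    rw [_root_.commutator_def, Subgroup.commutator_le]
    intro a _ b _
    obtain ⟨a, rfl⟩ := hπs a
    obtain ⟨b, rfl⟩ := hπs b
    rw [← map_commutatorElement, hmemH, map_commutatorElement]
    exact commutatorElement_eq_one_iff_mul_comm.2 (mul_comm _ _)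
  -- the Sylow subgroup
  have hle : (S : Subgroup G) ≤ cz ι := by
    rw [← hr]; rintro _ ⟨a, rfl⟩; exact mem_cz ι a
  set SC : Sylow 2 (cz ι) := S.subtype hle with hSC
  have hSCr : (SC : Subgroup (cz ι)) = (ιC ι).range := by
    ext ⟨y, hy⟩
    rw [show ((SC : Subgroup (cz ι))) = (S : Subgroup G).subgroupOf (cz ι) from rfl, mem_subgroupOf, ← hr]
    constructor
    · rintro ⟨a, ha⟩; exact ⟨a, Subtype.ext ha⟩
    · rintro ⟨a, ha⟩; exact ⟨a, congrArg Subtype.val ha⟩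
  set TJ : Sylow 2 ((cz ι ⧸ O) ⧸ zpowers zb) := SC.mapSurjective hπs with hTJ
  have hTJr : (TJ : Subgroup _) = μ.range := by
    rw [hTJ, Sylow.coe_mapSurjective, hSCr, hμ, MonoidHom.range_comp]
  set T : Sylow 2 H := IsPGroup.toSylow (TJ.2.comap_of_injective H.subtype H.subtype_injective)
    (ProductFusion.odd_relIndex_normal TJ H).not_two_dvd_nat with hT
  have hrange : ∀ y : H, y ∈ (T : Subgroup H) ↔ ∃ x ∈ Facts.even k, μ x = (y : (cz ι ⧸ O) ⧸ zpowers zb) := by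
    intro y
    show ((y : H) : (cz ι ⧸ O) ⧸ zpowers zb) ∈ (TJ : Subgroup _) ↔ _
    rw [hTJr]
    constructor
    · rintro ⟨x, hx⟩; exact ⟨x, (hmem x).1 (hx ▸ y.2), hx⟩
    · rintro ⟨x, -, hx⟩; exact ⟨x, hx⟩
  have hOQ : Cfsg.oddCore (cz ι ⧸ O) = ⊥ := Cores.pPrimeCore_quotient_self 2
  have hOJ : Cfsg.oddCore ((cz ι ⧸ O) ⧸ zpowers zb) = ⊥ := GW.Cons.oddCore_quotient_eq_bot hOQ hz hzc
  have hOH : Cfsg.oddCore H = ⊥ := by
    rw [← Subgroup.map_eq_bot_iff_of_injective _ H.subtype_injective, eq_bot_iff, ← hOJ]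
    exact Cores.map_pPrimeCore_subtype_le 2 H
  -- fusion
  have hfus : ∀ x ∈ Facts.even k, x * x = 1 → x ≠ 1 → x ≠ zE k → ∃ h ∈ H, h * μ x * h⁻¹ = μ (eE k) := by
    intro x hx hx2 hx1 hxz
    obtain ⟨g, hg⟩ := isConj_iff.1 (π.map_isConj (even_cj ι S hr hi h1 hx hx2 hx1 hxz))
    rcases hJ g with h | h
    · exact ⟨g, h, hg⟩
    refine ⟨c * g, ?_, ?_⟩
    · obtain ⟨d, rfl⟩ := hπs g
      rw [show π d * c⁻¹ = π (d * (ιC ι (Facts.cE k))⁻¹) by rw [map_mul, map_inv]; rfl, hmemH, map_mul,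
        map_inv, hcχ, mul_inv_eq_one] at h
      rw [show c * π d = π (ιC ι (Facts.cE k) * d) by rw [map_mul]; rfl, hmemH, map_mul, hcχ, h, mul_self_two]
    · rw [show c * g * μ x * (c * g)⁻¹ = c * (g * μ x * g⁻¹) * c⁻¹ by group,
        show g * μ x * g⁻¹ = μ (eE k) from hg, hc, ← map_inv, ← map_mul, ← map_mul, Facts.cE_conj_eE, map_mul,
        (hker _).2 (Or.inr rfl), mul_one]
  have hsq : ∀ x y, IsConj (μ x) (μ y) → x * x = 1 → y * y = 1 := by
    intro x y hxy hx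
    obtain ⟨g, hg⟩ := isConj_iff.1 hxy
    obtain ⟨q, rfl⟩ := QuotientGroup.mk_surjective g
    have h : ((q * ν x * q⁻¹ : cz ι ⧸ O) : (cz ι ⧸ O) ⧸ zpowers zb) = (ν y : (cz ι ⧸ O) ⧸ zpowers zb) := by
      rw [QuotientGroup.mk_mul, QuotientGroup.mk_mul, QuotientGroup.mk_inv, ← hμν, ← hμν]; exact hg
    have h' := hzmem _ (QuotientGroup.eq.1 h)
    have hx' : q * ν x * q⁻¹ * (q * ν x * q⁻¹) = 1 := by
      rw [show q * ν x * q⁻¹ * (q * ν x * q⁻¹) = q * (ν x * ν x) * q⁻¹ by group, ← map_mul, hx, map_one]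
      group
    apply hνi
    rw [map_mul, map_one]
    rcases h' with e | e
    · rw [← inv_mul_eq_one.1 e]; exact hx'
    · rw [eq_mul_of_inv_mul_eq e]
      have hc' := mem_center_iff.1 hzc (q * ν x * q⁻¹)
      calc q * ν x * q⁻¹ * zb * (q * ν x * q⁻¹ * zb)
          = q * ν x * q⁻¹ * (zb * (q * ν x * q⁻¹)) * zb := by group
        _ = q * ν x * q⁻¹ * (q * ν x * q⁻¹ * zb) * zb := by rw [hc']
        _ = q * ν x * q⁻¹ * (q * ν x * q⁻¹) * (zb * zb) := by group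
        _ = 1 := by rw [hx', one_mul, hzb, ← map_mul, zE_sq, map_one]
  have M : Setting μ H T := ⟨hker, hmem, hrange, hOH, hfus, hsq⟩
  refine exists_linear (Q := cz ι ⧸ O) hz hzc (M.pair hk) (M.factor1 hk) (M.factor2 hk) hJ hcomm ?_
  intro s hs hs1 q hq
  obtain ⟨x, hx, ex⟩ : ∃ x, (x ∈ Facts.fac1 k ∨ x ∈ Facts.fac2 k) ∧ μ x = (s : (cz ι ⧸ O) ⧸ zpowers zb) := by
    rcases hs with ⟨x, hx, ex⟩ | ⟨x, hx, ex⟩
    · exact ⟨x, Or.inl hx, ex⟩
    · exact ⟨x, Or.inr hx, ex⟩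
  have hne : ν x * ν x ≠ 1 := by
    rw [← map_mul, ← map_one ν]
    exact fun e => M.lift_ne hx (fun e' => hs1 (Subtype.ext (ex.symm.trans e'))) (hνi e)
  intro h2
  apply hne
  have h : (q : (cz ι ⧸ O) ⧸ zpowers zb) = (ν x : (cz ι ⧸ O) ⧸ zpowers zb) := hq.trans ex.symm
  rcases hzmem _ (QuotientGroup.eq.1 h) with e | e
  · rw [← inv_mul_eq_one.1 e]; exact h2
  · rw [eq_mul_of_inv_mul_eq e]
    have hc' := mem_center_iff.1 hzc q
    calc q * zb * (q * zb) = q * (zb * q) * zb := by group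
      _ = q * (q * zb) * zb := by rw [hc']
      _ = q * q * (zb * zb) := by group
      _ = 1 := by rw [h2, one_mul, hzb, ← map_mul, zE_sq, map_one]

end Cfsg.Agent.G2Cent
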