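import Cfsg.Agent.Lib.AutPSL.Diag
import Cfsg.Agent.Lib.GW.ConsQGroup

/-!
Automorphisms of `L₂(q)` commute modulo inner ones; no automorphism of `A₇` exchanges the two classes of
four-groups of a Sylow 2-subgroup; double covers of `L₂(q)` and of `A₄` with one involution.
-/

set_option autoImplicit false

open Subgroup
open scoped commutatorElement

namespace Cfsg.Agent.G2Cent

open Cfsg.Agent.GW.Cons

/-- Commutators of automorphisms of `L₂(q)` are inner. -/
theorem commutator_mem_inn {F : Type*} [Field F] [Fintype F]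
    (α β : MulAut (Matrix.ProjectiveSpecialLinearGroup (Fin 2) F)) :
    ⁅α, β⁆ ∈ Cfsg.Inn (Matrix.ProjectiveSpecialLinearGroup (Fin 2) F) := by
  classical
  obtain ⟨p, f, hp, hF⟩ : ∃ p f, Nat.Prime p ∧ Fintype.card F = p ^ f := by
    obtain ⟨p, _⟩ := CharP.exists F
    obtain ⟨n, hp, hn⟩ := FiniteField.card F p
    exact ⟨p, n, hp, hn⟩
  have : Fact p.Prime := ⟨hp⟩
  obtain ⟨ψ, hψ, hker⟩ := AutPSL.Out.exists_proj_two (F := F)
  set I := Cfsg.Inn (Matrix.ProjectiveSpecialLinearGroup (Fin 2) F) with hI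
  have : I.Normal := ⟨by
    rintro _ ⟨y, rfl⟩ a
    exact ⟨a y, MulEquiv.ext fun x => by simp [MulAut.conj_apply]⟩⟩
  have hle : I ≤ ψ.ker := hker ▸ AutPSL.Diag.inn_le_range
  obtain ⟨e⟩ := AutPSL.Out.exists_ringAut_equiv hF
  set χ := QuotientGroup.lift I (e.toMonoidHom.comp ψ) (fun x hx => by
    rw [MonoidHom.mem_ker, MonoidHom.comp_apply, MonoidHom.mem_ker.1 (hle hx), map_one]) with hχ
  have hχk : χ.ker = (AutPSL.Basic.gAut (n := 2) (F := F)).range.map (QuotientGroup.mk' I) := by
    ext x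
    induction x using QuotientGroup.induction_on with | H s => ?_
    rw [MonoidHom.mem_ker, hχ, QuotientGroup.lift_mk, MonoidHom.comp_apply]
    constructor
    · intro h
      exact ⟨s, hker ▸ MonoidHom.mem_ker.2 ((MulEquiv.map_eq_one_iff e).1 h), rfl⟩
    · rintro ⟨g, hg, hgs⟩
      rw [SetLike.mem_coe, ← hker, MonoidHom.mem_ker] at hg
      rw [QuotientGroup.mk'_apply, QuotientGroup.eq] at hgs
      have h2 := MonoidHom.mem_ker.1 (hle hgs)
      rw [map_mul, map_inv, hg, inv_one, one_mul] at h2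
      exact (MulEquiv.map_eq_one_iff e).2 h2
  have hcard : Nat.card χ.ker ∣ 2 := by
    rw [(AutPSL.Diag.card_diag (F := F) (n := 2) le_rfl _ hχk).2]
    exact Nat.gcd_dvd_left _ _
  -- a normal subgroup of order at most two is central
  have hcen : χ.ker ≤ center (MulAut (Matrix.ProjectiveSpecialLinearGroup (Fin 2) F) ⧸ I) := by
    intro x hx
    rw [mem_center_iff]
    intro g
    rcases (Nat.dvd_prime Nat.prime_two).1 hcard with h | h
    · rw [mem_bot.1 ((eq_bot_of_card_eq _ h).le hx), mul_one, one_mul]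
    · rcases eq_or_ne x 1 with rfl | hx1
      · rw [mul_one, one_mul]
      have h' : Nat.card χ.ker = 2 := h
      obtain ⟨a, b, hab, huniv⟩ := Nat.card_eq_two_iff.1 h'
      have hy : g * x * g⁻¹ ∈ χ.ker := (MonoidHom.normal_ker χ).conj_mem x hx g
      have hy1 : g * x * g⁻¹ ≠ 1 := fun e => hx1 (conj_eq_one_iff.1 e)
      have key : ∀ w : χ.ker, w ≠ 1 → w = ⟨x, hx⟩ := by
        intro w hw
        have h1 : (1 : χ.ker) ∈ ({a, b} : Set χ.ker) := huniv ▸ Set.mem_univ _
        have h2 : w ∈ ({a, b} : Set χ.ker) := huniv ▸ Set.mem_univ _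
        have h3 : (⟨x, hx⟩ : χ.ker) ∈ ({a, b} : Set χ.ker) := huniv ▸ Set.mem_univ _
        have h4 : (⟨x, hx⟩ : χ.ker) ≠ 1 := fun e => hx1 (congrArg Subtype.val e)
        simp only [Set.mem_insert_iff, Set.mem_singleton_iff] at h1 h2 h3
        rcases h1 with rfl | rfl <;> rcases h2 with rfl | rfl <;> rcases h3 with h3 | h3 <;>
          first
            | exact absurd rfl hw
            | exact absurd h3 h4
            | exact h3.symm
      have := congrArg Subtype.val (key ⟨_, hy⟩ fun e => hy1 (congrArg Subtype.val e))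
      exact mul_inv_eq_iff_eq_mul.1 this
  have hcomm := commutative_of_cyclic_center_quotient χ hcen
  rw [← QuotientGroup.eq_one_iff, ← QuotientGroup.mk'_apply, map_commutatorElement,
    commutatorElement_eq_one_iff_mul_comm]
  exact hcomm _ _

/-- A normal `L₂(q)` induces only inner automorphisms from commutators. -/
theorem exists_inner {J : Type*} [Group J] (K : Subgroup J) [K.Normal] {F : Type*} [Field F] [Fintype F]
    (e : K ≃* Matrix.ProjectiveSpecialLinearGroup (Fin 2) F) {j : J} (hj : j ∈ commutator J) :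
    ∃ k ∈ K, k⁻¹ * j ∈ centralizer (K : Set J) := by
  set α : J →* MulAut (Matrix.ProjectiveSpecialLinearGroup (Fin 2) F) :=
    (MulAut.congr e).toMonoidHom.comp (MulAut.conjNormal (H := K)) with hα
  have hle : commutator J ≤ (Cfsg.Inn (Matrix.ProjectiveSpecialLinearGroup (Fin 2) F)).comap α := by
    rw [_root_.commutator_def, Subgroup.commutator_le]
    intro a _ b _
    rw [mem_comap, map_commutatorElement]
    exact commutator_mem_inn _ _
  obtain ⟨y, hy⟩ := hle hj
  refine ⟨e.symm y, (e.symm y).2, ?_⟩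
  rw [← Perm.NearField.ker_conjNormal, MonoidHom.mem_ker]
  have hk : α (e.symm y : J) = MulAut.conj y := by
    refine MulEquiv.ext fun x => ?_
    show e (MulAut.conjNormal (e.symm y : J) (e.symm x)) = _
    rw [show MulAut.conjNormal (e.symm y : J) (e.symm x) = e.symm y * e.symm x * (e.symm y)⁻¹ from
      Subtype.ext (by rw [MulAut.conjNormal_apply]; rfl), map_mul, map_mul, map_inv,
      MulEquiv.apply_symm_apply, MulEquiv.apply_symm_apply, MulAut.conj_apply]
  have h1 : α ((e.symm y : J)⁻¹ * j) = 1 := by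
    rw [map_mul, map_inv, hk, hy, inv_mul_cancel]
  exact (MulEquiv.map_eq_one_iff (MulAut.congr e)).1 h1

/-- In `S₇` the two kinds of four-groups of a Sylow 2-subgroup of `A₇` are told apart by their fixed points. -/
theorem fix_ne : ∀ x y : DihedralGroup 4, x * x = 1 → y * y = 1 → x * y * (x * y) ≠ 1 →
    (Finset.univ.filter fun a => altSevenHom x a = a ∧ altSevenHom (x * y * (x * y)) a = a).card ≠
      (Finset.univ.filter fun a => altSevenHom y a = a ∧ altSevenHom (x * y * (x * y)) a = a).card := by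
  decide +kernel

/-- The only nontrivial central element. -/
theorem central_four : ∀ z : DihedralGroup 4, (∀ y, z * y = y * z) → z = 1 ∨ z = DihedralGroup.r 2 := by
  decide

/-- The squares of products of reflections are central. -/
theorem sq_central : ∀ x y w : DihedralGroup 4, x * y * (x * y) * w = w * (x * y * (x * y)) := by decide

/-- No automorphism of `A₇` exchanges the classes of four-groups of a Sylow 2-subgroup. -/
theorem alt_seven_no_swap {J : Type*} [Group J] [Finite J] (K : Subgroup J) [K.Normal]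
    (e : K ≃* alternatingGroup (Fin 7)) (S : Subgroup J) (hSK : S ≤ K) (eS : S ≃* DihedralGroup 4)
    {c r : J} (hc : c ∈ normalizer (S : Set J)) (hr : r ∈ S) (hr2 : r * r = 1)
    (hprod : r * (c * r * c⁻¹) * (r * (c * r * c⁻¹)) ≠ 1) : False := by
  classical
  have : Fact (Nat.Prime 2) := ⟨Nat.prime_two⟩
  set E := MulEquiv.ofBijective (MulAut.conjNormal : Equiv.Perm (Fin 7) →* MulAut (alternatingGroup (Fin 7)))
    (S2119.result 7 (by norm_num) (by norm_num)) with hE
  obtain ⟨σ, hσ'⟩ := E.surjective ((MulAut.congr e) (MulAut.conjNormal (H := K) c))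
  have hσ : ∀ (x : J) (hx : x ∈ K),
      ((e ⟨c * x * c⁻¹, Normal.conj_mem inferInstance x hx c⟩ : alternatingGroup (Fin 7)) : Equiv.Perm (Fin 7)) =
        σ * ((e ⟨x, hx⟩ : alternatingGroup (Fin 7)) : Equiv.Perm (Fin 7)) * σ⁻¹ := by
    intro x hx
    have h1 := congrArg (fun f : MulAut (alternatingGroup (Fin 7)) => ((f (e ⟨x, hx⟩) : alternatingGroup (Fin 7)) : Equiv.Perm (Fin 7))) hσ'
    rw [hE] at h1
    simp only [MulEquiv.ofBijective_apply, MulAut.conjNormal_apply] at h1
    rw [h1]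
    congr 1
    show e _ = e (MulAut.conjNormal c (e.symm (e ⟨x, hx⟩)))
    rw [MulEquiv.symm_apply_apply]
    exact congrArg e (Subtype.ext (MulAut.conjNormal_apply (H := K) c ⟨x, hx⟩).symm)
  -- the embedding of the dihedral group
  let f : DihedralGroup 4 →* alternatingGroup (Fin 7) :=
    e.toMonoidHom.comp ((Subgroup.inclusion hSK).comp eS.symm.toMonoidHom)
  have hfi : Function.Injective f := e.injective.comp ((Subgroup.inclusion_injective hSK).comp eS.symm.injective)
  set d7 := altSevenHom.codRestrict (alternatingGroup (Fin 7)) altSevenHom_mem with hd7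
  have hd7i : Function.Injective d7 := fun a b h => by
    have h' : altSevenHom a = altSevenHom b :=
      congrArg (fun p : alternatingGroup (Fin 7) => (p : Equiv.Perm (Fin 7))) h
    exact congrArg Prod.fst (sevenHom_injective h')
  have hc8 : Nat.card d7.range = 8 := by
    rw [← Nat.card_congr (MonoidHom.ofInjective hd7i).toEquiv, DihedralGroup.nat_card]
  have hA7 : Nat.card (alternatingGroup (Fin 7)) = 2520 := by
    rw [nat_card_alternatingGroup, Nat.card_eq_fintype_card, Fintype.card_fin]; rfl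
  obtain ⟨D, hD⟩ : ∃ D : Sylow 2 (alternatingGroup (Fin 7)), (D : Subgroup _) = d7.range := by
    refine ⟨(IsPGroup.of_card (n := 3) (by rw [hc8]; norm_num) : IsPGroup 2 d7.range).toSylow ?_, rfl⟩
    have h := d7.range.card_mul_index
    rw [hc8, hA7] at h
    omega
  obtain ⟨P, hP⟩ := ((IsPGroup.of_card (n := 3) (by
    rw [← Nat.card_congr (MonoidHom.ofInjective hfi).toEquiv, DihedralGroup.nat_card]; norm_num) :
      IsPGroup 2 f.range)).exists_le_sylow
  obtain ⟨g, hg⟩ := MulAction.exists_smul_eq (alternatingGroup (Fin 7)) P D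
  have hpre : ∀ x, ∃ y, d7 y = g * f x * g⁻¹ := fun x => by
    have : g * f x * g⁻¹ ∈ (D : Subgroup _) := by
      rw [← hg, Sylow.coe_subgroup_smul]
      exact ⟨_, hP ⟨x, rfl⟩, rfl⟩
    rwa [hD] at this
  -- the three elements
  set r' := c * r * c⁻¹ with hr'
  have hr'S : r' ∈ S := (mem_normalizer_iff.1 hc r).1 hr
  set ζ := r * r' * (r * r') with hζ
  have hζS : ζ ∈ S := mul_mem (mul_mem hr hr'S) (mul_mem hr hr'S)
  have hζc : ∀ s ∈ S, ζ * s = s * ζ := fun s hs => by
    have := sq_central (eS ⟨r, hr⟩) (eS ⟨r', hr'S⟩) (eS ⟨s, hs⟩)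
    rw [← map_mul, ← map_mul, ← map_mul, ← map_mul] at this
    exact congrArg Subtype.val (eS.injective this)
  have hζ' : c * ζ * c⁻¹ = ζ := by
    have h2 : c * ζ * c⁻¹ ∈ S := (mem_normalizer_iff.1 hc ζ).1 hζS
    have hcen : ∀ (w : J) (hw : w ∈ S), (∀ s ∈ S, w * s = s * w) → w ≠ 1 → eS ⟨w, hw⟩ = DihedralGroup.r 2 := by
      intro w hw h hw1
      refine (central_four _ fun y => ?_).resolve_left fun e1 => hw1 ?_
      · obtain ⟨⟨s, hs⟩, rfl⟩ := eS.surjective y
        rw [← map_mul, ← map_mul]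
        exact congrArg eS (Subtype.ext (h s hs))
      · exact congrArg Subtype.val ((MulEquiv.map_eq_one_iff eS).1 e1)
    have e1 := hcen ζ hζS hζc hprod
    have e2 := hcen _ h2 (fun s hs => by
      obtain ⟨t, ht, rfl⟩ : ∃ t ∈ S, c * t * c⁻¹ = s :=
        ⟨c⁻¹ * s * c, (mem_normalizer_iff.1 hc _).2 (by rwa [show c * (c⁻¹ * s * c) * c⁻¹ = s by group]), by group⟩
      rw [show c * ζ * c⁻¹ * (c * t * c⁻¹) = c * (ζ * t) * c⁻¹ by group, hζc t ht]
      group) (fun h => hprod (conj_eq_one_iff.1 h))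
    exact congrArg Subtype.val (eS.injective (e2.trans e1.symm))
  obtain ⟨x, hx⟩ := hpre (eS ⟨r, hr⟩)
  obtain ⟨y, hy⟩ := hpre (eS ⟨r', hr'S⟩)
  have hxy : d7 (x * y * (x * y)) = g * f (eS ⟨ζ, hζS⟩) * g⁻¹ := by
    rw [show (⟨ζ, hζS⟩ : S) = ⟨r, hr⟩ * ⟨r', hr'S⟩ * (⟨r, hr⟩ * ⟨r', hr'S⟩) from rfl]
    simp only [map_mul, hx, hy]
    group
  have hfe : ∀ (s : J) (hs : s ∈ S), f (eS ⟨s, hs⟩) = e ⟨s, hSK hs⟩ := fun s hs => by
    show e (Subgroup.inclusion hSK (eS.symm (eS ⟨s, hs⟩))) = _
    rw [MulEquiv.symm_apply_apply]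
    rfl
  refine fix_ne x y ?_ ?_ ?_ ?_
  · refine hd7i ?_
    rw [map_mul, hx, map_one, show g * f (eS ⟨r, hr⟩) * g⁻¹ * (g * f (eS ⟨r, hr⟩) * g⁻¹) =
      g * f (eS ⟨r, hr⟩ * eS ⟨r, hr⟩) * g⁻¹ by rw [map_mul]; group, ← map_mul eS,
      show (⟨r, hr⟩ : S) * ⟨r, hr⟩ = 1 from Subtype.ext hr2, map_one, map_one]
    group
  · have hr'2 : r' * r' = 1 := by
      rw [hr', show c * r * c⁻¹ * (c * r * c⁻¹) = c * (r * r) * c⁻¹ by group, hr2]; group
    refine hd7i ?_
    rw [map_mul, hy, map_one, show g * f (eS ⟨r', hr'S⟩) * g⁻¹ * (g * f (eS ⟨r', hr'S⟩) * g⁻¹) =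
      g * f (eS ⟨r', hr'S⟩ * eS ⟨r', hr'S⟩) * g⁻¹ by rw [map_mul]; group, ← map_mul eS,
      show (⟨r', hr'S⟩ : S) * ⟨r', hr'S⟩ = 1 from Subtype.ext hr'2, map_one, map_one]
    group
  · intro h
    rw [h, map_one] at hxy
    have h1 : f (eS ⟨ζ, hζS⟩) = 1 := conj_eq_one_iff.1 hxy.symm
    exact hprod (congrArg Subtype.val ((MulEquiv.map_eq_one_iff eS).1 (hfi (h1.trans (map_one f).symm))))
  · -- a bijection of common fixed points
    set τ : Equiv.Perm (Fin 7) := (g : Equiv.Perm (Fin 7)) * σ * (g : Equiv.Perm (Fin 7))⁻¹ with hτ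
    have tr : ∀ (s : J) (hs : s ∈ S) (hs' : c * s * c⁻¹ ∈ S),
        ((g * f (eS ⟨c * s * c⁻¹, hs'⟩) * g⁻¹ : alternatingGroup (Fin 7)) : Equiv.Perm (Fin 7)) =
          τ * ((g * f (eS ⟨s, hs⟩) * g⁻¹ : alternatingGroup (Fin 7)) : Equiv.Perm (Fin 7)) * τ⁻¹ := by
      intro s hs hs'
      rw [hfe, hfe]
      simp only [Subgroup.coe_mul, Subgroup.coe_inv, hσ s (hSK hs), hτ]
      group
    have tx : altSevenHom y = τ * altSevenHom x * τ⁻¹ := by
      have h1 := tr r hr hr'S
      rw [← hx, ← hy] at h1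
      exact h1
    have tz : altSevenHom (x * y * (x * y)) = τ * altSevenHom (x * y * (x * y)) * τ⁻¹ := by
      have h1 := tr ζ hζS (hζ'.symm ▸ hζS)
      rw [show (⟨c * ζ * c⁻¹, hζ'.symm ▸ hζS⟩ : S) = ⟨ζ, hζS⟩ from Subtype.ext hζ', ← hxy] at h1
      exact h1
    refine Finset.card_equiv τ fun a => ?_
    simp only [Finset.mem_filter, Finset.mem_univ, true_and]
    have hzq : altSevenHom (x * y * (x * y)) (τ a) = τ (altSevenHom (x * y * (x * y)) a) := by
      conv_lhs => rw [tz]
      simp [Equiv.Perm.mul_apply]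
    rw [tx, hzq]
    simp [Equiv.Perm.mul_apply]

/-- The preimage with one involution of `L₂(q)` is `SL₂(q)`. -/
theorem sl_of_psl {G : Type*} [Group G] [Finite G] {z : G} (hz : orderOf z = 2) (hzc : z ∈ center G)
    [(zpowers z).Normal] (L : Subgroup (G ⧸ zpowers z)) {F : Type} [Field F] [Fintype F]
    (hodd : Odd (Fintype.card F)) (h3 : 3 < Fintype.card F)
    (f : L ≃* Matrix.ProjectiveSpecialLinearGroup (Fin 2) F) (P : Sylow 2 L) {n : ℕ}
    (eP : (P : Subgroup L) ≃* DihedralGroup n) (hn : 2 ≤ n)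
    (huniq : ∀ y ∈ L.comap (QuotientGroup.mk' (zpowers z)), orderOf y = 2 → y = z) :
    Nonempty (↥(L.comap (QuotientGroup.mk' (zpowers z))) ≃* Matrix.SpecialLinearGroup (Fin 2) F) := by
  have : Fact (Nat.Prime 2) := ⟨Nat.prime_two⟩
  have : NeZero n := ⟨by omega⟩
  have := TimesPSLTwo.psl_simple (F := F) h3
  have hperf : commutator (Matrix.ProjectiveSpecialLinearGroup (Fin 2) F) = ⊤ := by
    have h := sl_double F hodd h3
    rw [_root_.commutator_def, ← Subgroup.map_top_of_surjective _ (QuotientGroup.mk'_surjective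
      (center (Matrix.SpecialLinearGroup (Fin 2) F))), ← Subgroup.map_commutator, ← _root_.commutator_def,
      h.perfect]
  have hLL : ⁅L, L⁆ = L := by
    have h1 : commutator L = ⊤ := by
      refine Subgroup.map_injective (f := f.toMonoidHom) f.injective ?_
      rw [_root_.commutator_def, Subgroup.map_commutator,
        Subgroup.map_top_of_surjective f.toMonoidHom f.surjective, ← _root_.commutator_def, hperf]
    have h2 := congrArg (Subgroup.map L.subtype) h1
    rwa [_root_.commutator_def, Subgroup.map_commutator, ← MonoidHom.range_eq_map, Subgroup.range_subtype] at h2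
  have hev : 2 ∣ Nat.card L := by
    refine Dvd.dvd.trans ?_ (Subgroup.card_subgroup_dvd_card (P : Subgroup L))
    rw [Nat.card_congr eP.toEquiv, DihedralGroup.nat_card]
    exact dvd_mul_right 2 n
  have hξ := double_of_preimage hz hzc L hLL hev huniq
  have hξ2 : IsDouble (f.symm.toMonoidHom.comp
      (QuotientGroup.mk' (center (Matrix.SpecialLinearGroup (Fin 2) F)))) := by
    have h := sl_double F hodd h3
    have hk' : (f.symm.toMonoidHom.comp
        (QuotientGroup.mk' (center (Matrix.SpecialLinearGroup (Fin 2) F)))).ker = _ :=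
      MonoidHom.ker_mulEquiv_comp
        (QuotientGroup.mk' (center (Matrix.SpecialLinearGroup (Fin 2) F))) f.symm
    exact ⟨h.perfect, f.symm.surjective.comp h.surj, hk'.le.trans h.central, by rw [hk']; exact h.card⟩
  exact double_unique hξ hξ2 P eP

/-- The preimage with one involution of a group of order 12 is `SL₂(3)`. -/
theorem sl_of_twelve {G : Type*} [Group G] [Finite G] {z : G} (hz : orderOf z = 2)
    [(zpowers z).Normal] (L : Subgroup (G ⧸ zpowers z)) (h12 : Nat.card L = 12) (V : Subgroup L)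
    [V.Normal] (hV : Nat.card V = 4) (hsq : ∀ x ∈ V, x * x = 1) (hC : centralizer (V : Set L) ≤ V)
    (huniq : ∀ y ∈ L.comap (QuotientGroup.mk' (zpowers z)), orderOf y = 2 → y = z) :
    Nonempty (↥(L.comap (QuotientGroup.mk' (zpowers z))) ≃* Matrix.SpecialLinearGroup (Fin 2) (ZMod 3)) := by
  classical
  have : Fact (Nat.Prime 2) := ⟨Nat.prime_two⟩
  set M := L.comap (QuotientGroup.mk' (zpowers z)) with hM
  set π : M →* L := (QuotientGroup.mk' (zpowers z)).subgroupComap L with hπ
  have hπs : Function.Surjective π :=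
    MonoidHom.subgroupComap_surjective_of_surjective _ L (QuotientGroup.mk'_surjective _)
  have hzM : zpowers z ≤ M := fun x hx => by
    show QuotientGroup.mk' (zpowers z) x ∈ L
    rw [QuotientGroup.mk'_apply, (QuotientGroup.eq_one_iff x).2 hx]
    exact one_mem _
  have hker : π.ker = (zpowers z).subgroupOf M := by
    ext x
    rw [MonoidHom.mem_ker, mem_subgroupOf, ← QuotientGroup.eq_one_iff]
    exact Subtype.ext_iff
  have hk2 : Nat.card π.ker = 2 := by
    rw [hker, Nat.card_congr (Subgroup.subgroupOfEquivOfLe hzM).toEquiv, Nat.card_zpowers, hz]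
  have h1 : Cfsg.PRankLE 2 1 M := by
    intro A _ hA
    rw [pow_one, ← hz, ← Nat.card_zpowers, ← Subgroup.card_map_of_injective (K := A) M.subtype_injective]
    refine Subgroup.card_le_of_le ?_
    rintro _ ⟨a, ha, rfl⟩
    rcases eq_or_ne (a : G) 1 with h | h
    · show (a : G) ∈ zpowers z
      rw [h]; exact one_mem _
    · show (a : G) ∈ zpowers z
      rw [huniq a a.2 (orderOf_eq_prime (congrArg Subtype.val (hA a ha)) h)]
      exact mem_zpowers z
  obtain ⟨P⟩ := (inferInstance : Nonempty (Sylow 2 M))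
  rcases cyclic_or_quaternion h1 P with hcyc | ⟨m, ⟨eP⟩⟩
  · exfalso
    set P' : Sylow 2 L := P.mapSurjective hπs with hP'
    have hVP : V ≤ (P' : Subgroup L) :=
      IsPGroup.le_sylow_of_normal (IsPGroup.of_card (n := 2) (by rw [hV]; norm_num)) P'
    have hPc : IsCyclic (P' : Subgroup L) :=
      isCyclic_of_surjective (π.subgroupMap (P : Subgroup M)) (π.subgroupMap_surjective _)
    have hVc : IsCyclic V :=
      isCyclic_of_injective (Subgroup.inclusion hVP) (Subgroup.inclusion_injective hVP)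
    obtain ⟨v, hv⟩ := IsCyclic.exists_ofOrder_eq_natCard (α := V)
    have h2 : orderOf v ∣ 2 := orderOf_dvd_of_pow_eq_one (Subtype.ext (by
      show ((v ^ 2 : V) : L) = 1
      rw [pow_two]; exact hsq v v.2))
    rw [hv, hV] at h2
    norm_num at h2
  · exact (sl23_of_cover P eP π hπs hk2 h12 V hV hC).2

end Cfsg.Agent.G2Cent
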