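import Cfsg.Agent.Lib.G2Cent.Pair
import Cfsg.Agent.Lib.G2Cent.Outer
import Cfsg.Agent.Lib.GW.MainFinal

/-!
The component belonging to one factor.
-/

set_option autoImplicit false
set_option linter.unusedSectionVars false

open Subgroup
open scoped commutatorElement

namespace Cfsg.Agent.G2Cent

open Cfsg.Agent.GW.Cons

variable {J : Type*} [Group J] [Finite J]

/-- What is known about one factor. -/
structure Factor (H : Subgroup J) (S₁ S₂ : Subgroup H) (c : J) : Prop where
  dih : ∃ n, 2 ≤ n ∧ Nonempty (S₁ ≃* DihedralGroup n)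
  fuse : ∀ a ∈ S₁, ∀ r ∈ S₁, orderOf a = 2 → orderOf r = 2 → IsConj a r
  norm : ∀ s ∈ S₁, ∃ s' ∈ S₁, c * (s : J) * c⁻¹ = (s' : J)
  four : (∀ a ∈ S₁, ∀ b ∈ S₁, a * b = b * a) →
    (∃ η : H, (∀ y ∈ S₂, η * y = y * η) ∧ ∃ r ∈ S₁, η * r * η⁻¹ ≠ r) ∧
    (∃ a ∈ S₁, a ≠ 1 ∧ c * (a : J) * c⁻¹ = (a : J)) ∧ ∃ r ∈ S₁, c * (r : J) * c⁻¹ ≠ (r : J)
  swap : (¬ ∀ a ∈ S₁, ∀ b ∈ S₁, a * b = b * a) → ∃ r ∈ S₁, r * r = 1 ∧
    (r : J) * (c * r * c⁻¹) * ((r : J) * (c * r * c⁻¹)) ≠ 1

/-- A dihedral group is generated by its involutions. -/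
theorem mem_closure_involutions {X : Type*} [Group X] {n : ℕ} (e : X ≃* DihedralGroup n) (x : X) :
    x ∈ closure {y : X | orderOf y = 2} := by
  have hs : ∀ i : ZMod n, e.symm (DihedralGroup.sr i) ∈ closure {y : X | orderOf y = 2} := fun i =>
    Subgroup.subset_closure (by
      show orderOf (e.symm (DihedralGroup.sr i)) = 2
      rw [MulEquiv.orderOf_eq, DihedralGroup.orderOf_sr])
  obtain ⟨d, rfl⟩ := e.symm.surjective x
  rcases d with i | i
  · rw [show DihedralGroup.r i = DihedralGroup.sr 0 * DihedralGroup.sr i by simp, map_mul]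
    exact mul_mem (hs 0) (hs i)
  · exact hs i

variable {H : Subgroup J} {T : Sylow 2 H} {S₁ S₂ : Subgroup H} {c : J}

/-- The closure of a factor as a subgroup of the whole group. -/
def cl (S : Subgroup H) : Subgroup J := (normalClosure (S : Set H)).map H.subtype

theorem cl_normal [H.Normal] (hJ : ∀ g : J, g ∈ H ∨ g * c⁻¹ ∈ H)
    (hc : ∀ s ∈ S₁, ∃ s' ∈ S₁, c * (s : J) * c⁻¹ = (s' : J)) : (cl S₁).Normal := by
  set K := normalClosure (S₁ : Set H) with hK
  set φ := MulAut.conjNormal (H := H) c with hφ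
  have hmap : K.map φ.toMonoidHom ≤ K := by
    rw [hK, Subgroup.map_normalClosure _ φ.toMonoidHom φ.surjective]
    refine normalClosure_le_normal ?_
    rintro _ ⟨s, hs, rfl⟩
    obtain ⟨s', hs', e⟩ := hc s hs
    rw [show φ.toMonoidHom s = s' from Subtype.ext ((MulAut.conjNormal_apply c s).trans e)]
    exact subset_normalClosure hs'
  have hconjH : ∀ h : H, ∀ x ∈ cl S₁, (h : J) * x * (h : J)⁻¹ ∈ cl S₁ := by
    rintro h _ ⟨y, hy, rfl⟩
    exact ⟨h * y * h⁻¹, Normal.conj_mem normalClosure_normal y hy h, by simp⟩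
  refine ⟨fun x hx g => ?_⟩
  rcases hJ g with hg | hg
  · exact hconjH ⟨g, hg⟩ x hx
  · obtain ⟨y, hy, rfl⟩ := hx
    have h1 : c * (y : J) * c⁻¹ ∈ cl S₁ := by
      refine ⟨φ y, hmap ⟨y, hy, rfl⟩, ?_⟩
      exact MulAut.conjNormal_apply c y
    have := hconjH ⟨_, hg⟩ _ h1
    rwa [show g * c⁻¹ * (c * (y : J) * c⁻¹) * (g * c⁻¹)⁻¹ = g * H.subtype y * g⁻¹ by
      rw [Subgroup.coe_subtype]; group] at this

/-- A closure is its factor, or is `L₂(q)`. -/
theorem closure_cases [H.Normal] (P : Pair T S₁ S₂) (hF : Factor H S₁ S₂ c)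
    (hJ : ∀ g : J, g ∈ H ∨ g * c⁻¹ ∈ H) :
    (normalClosure (S₁ : Set H) = S₁ ∧ ∀ a ∈ S₁, ∀ b ∈ S₁, a * b = b * a) ∨
      ∃ (F : Type) (_ : Field F) (_ : Fintype F), Odd (Fintype.card F) ∧ 3 < Fintype.card F ∧
        Nonempty (normalClosure (S₁ : Set H) ≃* Matrix.ProjectiveSpecialLinearGroup (Fin 2) F) ∧
        ⁅normalClosure (S₁ : Set H), normalClosure (S₁ : Set H)⁆ = normalClosure (S₁ : Set H) := by
  classical
  have : Fact (Nat.Prime 2) := ⟨Nat.prime_two⟩
  obtain ⟨n, hn, ⟨e⟩⟩ := hF.dih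
  set K := normalClosure (S₁ : Set H) with hK
  have hS₁K : S₁ ≤ K := fun x hx => subset_normalClosure hx
  set R : Sylow 2 K := IsPGroup.toSylow (T.2.comap_of_injective K.subtype K.subtype_injective)
    (ProductFusion.odd_relIndex_normal T K).not_two_dvd_nat with hR
  have hRS : (R : Subgroup K) = S₁.subgroupOf K := by
    ext x
    constructor
    · intro hx
      exact P.inf_closure.le (mem_inf.2 ⟨hx, x.2⟩)
    · intro hx
      exact P.prod.1 hx
  set W : Subgroup H := ⁅K, K⁆ with hW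
  have hWK : W ≤ K := Subgroup.commutator_le.2 fun a ha b hb =>
    mul_mem (mul_mem (mul_mem ha hb) (inv_mem ha)) (inv_mem hb)
  by_cases hz : ∃ a ∈ S₁, orderOf a = 2 ∧ a ∈ W
  · right
    obtain ⟨a, ha, ha2, haW⟩ := hz
    have hS₁W : S₁ ≤ W := by
      intro x hx
      have h1 := mem_closure_involutions e ⟨x, hx⟩
      have h2 : (closure {y : S₁ | orderOf y = 2}).map S₁.subtype ≤ W := by
        rw [MonoidHom.map_closure, closure_le]
        rintro _ ⟨y, hy, rfl⟩
        obtain ⟨g, hg⟩ := isConj_iff.1 (hF.fuse a ha y y.2 ha2 (by rw [Subgroup.orderOf_coe]; exact hy))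
        show (y : H) ∈ W
        rw [← hg]
        exact Normal.conj_mem inferInstance a haW g
      exact h2 ⟨_, h1, rfl⟩
    have hKW : W = K := le_antisymm hWK (normalClosure_le_normal hS₁W)
    have hperf : Group.IsPerfect K := ⟨Subgroup.map_injective K.subtype_injective (by
      rw [_root_.commutator_def, Subgroup.map_commutator, ← MonoidHom.range_eq_map, Subgroup.range_subtype,
        ← hW, hKW])⟩
    let eR : (R : Subgroup K) ≃* DihedralGroup n :=
      ((MulEquiv.subgroupCongr hRS).trans (Subgroup.subgroupOfEquivOfLe hS₁K)).trans e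
    have hOK : Cfsg.oddCore K = ⊥ := by
      rw [← Subgroup.map_eq_bot_iff_of_injective _ K.subtype_injective, eq_bot_iff, ← P.core]
      exact Cores.map_pPrimeCore_subtype_le 2 K
    let eK : K ⧸ Cfsg.oddCore K ≃* K :=
      (QuotientGroup.quotientMulEquivOfEq hOK).trans QuotientGroup.quotientBot
    rcases Cfsg.Agent.GW.perfectGW R n hn ⟨eR⟩ with ⟨F, iF, iT, hodd, h3, ⟨f⟩⟩ | ⟨⟨f⟩⟩
    · exact ⟨F, iF, iT, hodd, h3, ⟨eK.symm.trans f⟩, hKW⟩
    · exfalso
      let f' : K ≃* alternatingGroup (Fin 7) := eK.symm.trans f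
      have h8 : n = 4 := by
        have hc := R.card_eq_multiplicity
        rw [Nat.card_congr eR.toEquiv, DihedralGroup.nat_card, Nat.card_congr f'.toEquiv,
          nat_card_alternatingGroup, Nat.card_eq_fintype_card, Fintype.card_fin,
          show Nat.factorial 7 / 2 = 2 ^ 3 * 315 from rfl,
          Nat.factorization_mul (by norm_num) (by norm_num), Nat.Prime.factorization_pow Nat.prime_two,
          Finsupp.add_apply, Finsupp.single_eq_same,
          Nat.factorization_eq_zero_of_not_dvd (show ¬ 2 ∣ 315 by norm_num)] at hc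
        omega
      subst h8
      have hna : ¬ ∀ a ∈ S₁, ∀ b ∈ S₁, a * b = b * a := by
        intro h
        have h' : ∀ x y : DihedralGroup 4, x * y = y * x := fun x y => e.symm.injective (by
          rw [map_mul, map_mul]
          exact Subtype.ext (h _ (e.symm x).2 _ (e.symm y).2))
        exact absurd (h' (DihedralGroup.r 1) (DihedralGroup.sr 0)) (by decide)
      obtain ⟨r, hr, hr2, hrr⟩ := hF.swap hna
      have := cl_normal hJ hF.norm
      let eJ : cl S₁ ≃* alternatingGroup (Fin 7) :=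
        (K.equivMapOfInjective H.subtype H.subtype_injective).symm.trans f'
      refine alt_seven_no_swap (cl S₁) eJ (S₁.map H.subtype) (Subgroup.map_mono hS₁K)
        ((S₁.equivMapOfInjective H.subtype H.subtype_injective).symm.trans e) (c := c) (r := (r : J))
        ?_ ⟨r, hr, rfl⟩ (congrArg Subtype.val hr2) hrr
      have hle : (S₁.map H.subtype).map (MulAut.conj c).toMonoidHom ≤ S₁.map H.subtype := by
        rintro _ ⟨_, ⟨s, hs, rfl⟩, rfl⟩
        obtain ⟨s', hs', e'⟩ := hF.norm s hs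
        exact ⟨s', hs', e'.symm⟩
      exact Transfer.Fusion.map_conj_eq_self_iff.1 (Subgroup.eq_of_le_of_card_ge hle
        (Subgroup.card_map_of_injective (MulAut.conj c).injective).ge)
  · left
    push Not at hz
    have hWT : (T : Subgroup H) ⊓ W = ⊥ := by
      refine (eq_bot_iff_forall _).2 fun x hx => by_contra fun hx1 => ?_
      obtain ⟨hxT, hxW⟩ := mem_inf.1 hx
      have hxS : x ∈ S₁ := P.inf_closure.le (mem_inf.2 ⟨hxT, hWK hxW⟩)
      obtain ⟨j, hj⟩ := IsPGroup.iff_orderOf.1 T.2 ⟨x, hxT⟩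
      rw [Subgroup.orderOf_mk] at hj
      cases j with
      | zero => exact hx1 (orderOf_eq_one_iff.1 hj)
      | succ j =>
        refine hz (x ^ 2 ^ j) (pow_mem hxS _) ?_ (pow_mem hxW _)
        rw [orderOf_pow_of_dvd (by positivity) (hj ▸ pow_dvd_pow 2 (Nat.le_succ j)), hj, pow_succ,
          Nat.mul_div_cancel_left _ (by positivity)]
    have hW1 : W = ⊥ := P.normal_eq_bot hWT
    have hab : ∀ x ∈ K, ∀ y ∈ K, x * y = y * x := fun x hx y hy =>
      commutatorElement_eq_one_iff_mul_comm.1 (mem_bot.1 (hW1.le (commutator_mem_commutator hx hy)))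
    have hKS : K = S₁ := by
      refine le_antisymm ?_ hS₁K
      rw [hK, normalClosure, closure_le]
      intro y hy
      obtain ⟨x, hx, hconj⟩ := Group.mem_conjugatesOfSet_iff.1 hy
      obtain ⟨h, rfl⟩ := isConj_iff.1 hconj
      have hxK : h * x * h⁻¹ ∈ K := Subgroup.Normal.conj_mem inferInstance x (hS₁K hx) h
      obtain ⟨j, hj⟩ := T.2 ⟨x, P.prod.1 hx⟩
      have hp : IsPGroup 2 (zpowers (⟨_, hxK⟩ : K)) := by
        refine ProductFusion.Pair.isPGroup_zpowers (k := j) (Subtype.ext ?_)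
        show (h * x * h⁻¹) ^ 2 ^ j = 1
        rw [conj_pow, show x ^ 2 ^ j = 1 from congrArg Subtype.val hj, mul_one, mul_inv_cancel]
      have : (zpowers (⟨_, hxK⟩ : K)).Normal := ⟨fun m hm g => by
        rwa [show g * m = m * g from Subtype.ext (hab g g.2 m m.2), mul_inv_cancel_right]⟩
      have h1 := IsPGroup.le_sylow_of_normal hp R (mem_zpowers _)
      rw [hRS] at h1
      exact h1
    exact ⟨hKS, fun a ha b hb => hab a (hS₁K ha) b (hS₁K hb)⟩

/-- The component of one factor. -/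
structure Comp (H : Subgroup J) (T : Sylow 2 H) (S₁ S₂ : Subgroup H) (K : Subgroup J) : Prop where
  normal : K.Normal
  le : K ≤ H
  le_comm : K ≤ commutator J
  le_cl : cl S₁ ≤ K
  cent : K ≤ centralizer (cl S₂ : Set J)
  inf : ∀ x : H, x ∈ (T : Subgroup H) → (x : J) ∈ K → x ∈ S₁
  inner : ∀ j ∈ commutator J, ∃ k ∈ K, k⁻¹ * j ∈ centralizer (cl S₁ : Set J)
  shape : (∃ (F : Type) (_ : Field F) (_ : Fintype F), Odd (Fintype.card F) ∧ 3 < Fintype.card F ∧
      Nonempty (K ≃* Matrix.ProjectiveSpecialLinearGroup (Fin 2) F) ∧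
      ∃ (P : Sylow 2 K) (n : ℕ), 2 ≤ n ∧ Nonempty ((P : Subgroup K) ≃* DihedralGroup n)) ∨
    (Nat.card K = 12 ∧ ∃ V : Subgroup K, V.Normal ∧ Nat.card V = 4 ∧ (∀ x ∈ V, x * x = 1) ∧
      centralizer (V : Set K) ≤ V)

theorem exists_comp [H.Normal] (P : Pair T S₁ S₂) (hF : Factor H S₁ S₂ c) (hF₂ : Factor H S₂ S₁ c)
    (hJ : ∀ g : J, g ∈ H ∨ g * c⁻¹ ∈ H) (hcomm : commutator J ≤ H) :
    ∃ K : Subgroup J, Comp H T S₁ S₂ K := by
  classical
  have : Fact (Nat.Prime 2) := ⟨Nat.prime_two⟩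
  have hKn := cl_normal hJ hF.norm
  have hLn := cl_normal hJ hF₂.norm
  have hKL : cl S₁ ≤ centralizer (cl S₂ : Set J) := by
    rintro _ ⟨x, hx, rfl⟩
    rw [mem_centralizer_iff]
    rintro _ ⟨y, hy, rfl⟩
    exact (congrArg Subtype.val (P.comm hx hy)).symm
  obtain ⟨n, hn, ⟨e⟩⟩ := hF.dih
  rcases closure_cases P hF hJ with ⟨hKS, hab⟩ | ⟨F, iF, iT, hodd, h3, ⟨f⟩, hperf⟩
  swap
  · -- the closure is `L₂(q)`
    set K := normalClosure (S₁ : Set H) with hK
    let eJ : cl S₁ ≃* Matrix.ProjectiveSpecialLinearGroup (Fin 2) F :=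
      (K.equivMapOfInjective H.subtype H.subtype_injective).symm.trans f
    refine ⟨cl S₁, hKn, Subgroup.map_subtype_le _, ?_, le_rfl, hKL, ?_, fun j hj => exists_inner _ eJ hj, Or.inl ?_⟩
    · rw [cl, ← hK, ← hperf, Subgroup.map_commutator, _root_.commutator_def]
      exact Subgroup.commutator_mono le_top le_top
    · intro x hxT hxK
      obtain ⟨y, hy, he⟩ := hxK
      rw [H.subtype_injective he] at hy
      exact P.inf_closure.le (mem_inf.2 ⟨hxT, hy⟩)
    · set R : Sylow 2 K := IsPGroup.toSylow (T.2.comap_of_injective K.subtype K.subtype_injective)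
        (ProductFusion.odd_relIndex_normal T K).not_two_dvd_nat with hR
      have hRS : (R : Subgroup K) = S₁.subgroupOf K := by
        ext x
        exact ⟨fun hx => P.inf_closure.le (mem_inf.2 ⟨hx, x.2⟩), fun hx => P.prod.1 hx⟩
      let eR : (R : Subgroup K) ≃* DihedralGroup n :=
        ((MulEquiv.subgroupCongr hRS).trans
          (Subgroup.subgroupOfEquivOfLe fun x hx => subset_normalClosure hx)).trans e
      set eK := K.equivMapOfInjective H.subtype H.subtype_injective
      exact ⟨F, iF, iT, hodd, h3, ⟨eJ⟩, R.mapSurjective (f := eK.toMonoidHom) eK.surjective, n, hn,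
        ⟨(eK.subgroupMap (R : Subgroup K)).symm.trans eR⟩⟩
  · -- the closure is a four-group
    obtain ⟨⟨η, hη, r₀, hr₀, hr₀η⟩, ⟨a, ha, ha1, hca⟩, ⟨r, hr, hcr⟩⟩ := hF.four hab
    have hcl : cl S₁ = S₁.map H.subtype := by rw [cl, hKS]
    have hn2 : n = 2 := by
      by_contra hne
      have h' : ∀ x y : DihedralGroup n, x * y = y * x := fun x y => e.symm.injective (by
        rw [map_mul, map_mul]
        exact Subtype.ext (hab _ (e.symm x).2 _ (e.symm y).2))
      have h1 := h' (DihedralGroup.r 1) (DihedralGroup.sr 0)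
      simp only [DihedralGroup.r_mul_sr, DihedralGroup.sr_mul_r, DihedralGroup.sr.injEq, zero_sub, zero_add] at h1
      have h2 : ((2 : ℕ) : ZMod n) = 0 := by push_cast; linear_combination -h1
      have := Nat.le_of_dvd two_pos ((ZMod.natCast_eq_zero_iff _ _).1 h2)
      omega
    subst hn2
    have hsq : ∀ x ∈ S₁, x * x = 1 := by
      intro x hx
      have h : ∀ y : DihedralGroup 2, y * y = 1 := by decide
      have := h (e ⟨x, hx⟩)
      rw [← map_mul, MulEquiv.map_eq_one_iff] at this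
      exact congrArg Subtype.val this
    have h4 : Nat.card S₁ = 4 := by
      rw [Nat.card_congr e.toEquiv, DihedralGroup.nat_card]
    -- the four elements
    have hra : r ≠ a := fun h => hcr (h ▸ hca)
    have hr1 : r ≠ 1 := fun h => hcr (by simp [h])
    have hfour : ∀ x ∈ S₁, x = 1 ∨ x = a ∨ x = r ∨ x = a * r := by
      have key : ∀ u v x : DihedralGroup 2, u ≠ 1 → v ≠ 1 → u ≠ v → x = 1 ∨ x = u ∨ x = v ∨ x = u * v := by
        decide
      intro x hx
      have := key (e ⟨a, ha⟩) (e ⟨r, hr⟩) (e ⟨x, hx⟩)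
        (fun h => ha1 (congrArg Subtype.val ((MulEquiv.map_eq_one_iff e).1 h)))
        (fun h => hr1 (congrArg Subtype.val ((MulEquiv.map_eq_one_iff e).1 h)))
        (fun h => hra (congrArg Subtype.val (e.injective h)).symm)
      rw [← map_mul] at this
      rcases this with h | h | h | h
      · exact Or.inl (congrArg Subtype.val ((MulEquiv.map_eq_one_iff e).1 h))
      · exact Or.inr (Or.inl (congrArg Subtype.val (e.injective h)))
      · exact Or.inr (Or.inr (Or.inl (congrArg Subtype.val (e.injective h))))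
      · exact Or.inr (Or.inr (Or.inr (congrArg Subtype.val (e.injective h))))
    have hmemS : ∀ (g : H), ∀ x ∈ S₁, g * x * g⁻¹ ∈ S₁ := fun g x hx => by
      have := Normal.conj_mem normalClosure_normal x
        (show x ∈ normalClosure (S₁ : Set H) from subset_normalClosure hx) g
      rwa [hKS] at this
    -- the Sylow subgroup fixes the factor pointwise, so elements fixing one point fix all
    set Cz : Subgroup H := centralizer (normalClosure (S₁ : Set H) : Set H) with hCz
    have hCzo : Odd Cz.index := by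
      refine (Nat.not_even_iff_odd.1 fun h => T.not_dvd_index h.two_dvd).of_dvd_nat (index_dvd_of_le ?_)
      intro t ht
      rw [hCz, mem_centralizer_iff]
      intro x hx
      rw [SetLike.mem_coe, hKS] at hx
      obtain ⟨p, hp, q, hq, rfl⟩ := P.decomp ht
      rw [← mul_assoc, hab x hx p hp, mul_assoc, P.prod.2.2.1 x hx q hq, mul_assoc]
    have hfix : ∀ h : H, h * a * h⁻¹ = a → ∀ x ∈ S₁, h * x * h⁻¹ = x := by
      intro h hh
      suffices hhr : h * r * h⁻¹ = r by
        intro x hx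
        rcases hfour x hx with rfl | rfl | rfl | rfl
        · group
        · exact hh
        · exact hhr
        · rw [show h * (a * r) * h⁻¹ = h * a * h⁻¹ * (h * r * h⁻¹) by group, hh, hhr]
      rcases hfour _ (hmemS h r hr) with h1 | h1 | h1 | h1
      · exact absurd (conj_eq_one_iff.1 h1) hr1
      · exact absurd (mul_left_cancel (mul_right_cancel (h1.trans hh.symm))) hra
      · exact h1
      exfalso
      have hstep : ∀ i : ℕ, h ^ (2 * i) * r * (h ^ (2 * i))⁻¹ = r := by
        intro i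
        induction i with
        | zero => group
        | succ i ih =>
          rw [show h ^ (2 * (i + 1)) = h * h * h ^ (2 * i) by
            rw [show 2 * (i + 1) = 2 + 2 * i by ring, pow_add, pow_two]]
          calc h * h * h ^ (2 * i) * r * (h * h * h ^ (2 * i))⁻¹
              = h * (h * (h ^ (2 * i) * r * (h ^ (2 * i))⁻¹) * h⁻¹) * h⁻¹ := by group
            _ = h * a * h⁻¹ * (h * r * h⁻¹) := by
              rw [ih]
              conv_lhs => rw [h1]
              group
            _ = r := by rw [hh, h1, ← mul_assoc, hsq a ha, one_mul]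
      obtain ⟨i, hi⟩ := hCzo
      have hz := mem_centralizer_iff.1 (Cz.pow_index_mem h) r (subset_normalClosure hr)
      rw [hi, show h ^ (2 * i + 1) = h * h ^ (2 * i) from pow_succ' h (2 * i)] at hz
      have h2 : h * h ^ (2 * i) * r * (h * h ^ (2 * i))⁻¹ = a * r := by
        rw [← h1]
        calc h * h ^ (2 * i) * r * (h * h ^ (2 * i))⁻¹
            = h * (h ^ (2 * i) * r * (h ^ (2 * i))⁻¹) * h⁻¹ := by group
          _ = h * r * h⁻¹ := by rw [hstep]
      rw [← hz, mul_inv_cancel_right] at h2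
      exact ha1 (mul_eq_right.1 h2.symm)
    have hηa : η * a * η⁻¹ ≠ a := fun h => hr₀η (hfix η h r₀ hr₀)
    -- `⁅η, c⁆` still moves `a`
    set cc : MulAut H := MulAut.conjNormal (H := H) c with hcc
    have hcc_apply : ∀ x : H, ((cc x : H) : J) = c * (x : J) * c⁻¹ := fun x => MulAut.conjNormal_apply c x
    have hcS : ∀ x ∈ S₁, cc x ∈ S₁ := fun x hx => by
      obtain ⟨s', hs', e'⟩ := hF.norm x hx
      rwa [show cc x = s' from Subtype.ext ((hcc_apply x).trans e')]
    have hcca : cc a = a := Subtype.ext ((hcc_apply a).trans hca)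
    have hccr : cc r = a * r := by
      rcases hfour _ (hcS r hr) with h | h | h | h
      · exact absurd ((MulEquiv.map_eq_one_iff cc).1 h) hr1
      · exact absurd (cc.injective (h.trans hcca.symm)) hra
      · exact absurd ((hcc_apply r).symm.trans (congrArg Subtype.val h)) hcr
      · exact h
    obtain ⟨m₁, hm₁, hm₁J, hm₁L⟩ : ∃ m₁ : H, m₁ * a * m₁⁻¹ ≠ a ∧ (m₁ : J) ∈ commutator J ∧
        ∀ y ∈ S₂, m₁ * y = y * m₁ := by
      refine ⟨η * cc η⁻¹, ?_, ?_, ?_⟩
      · have e1 : cc η⁻¹ * a * (cc η⁻¹)⁻¹ = cc (η⁻¹ * a * η⁻¹⁻¹) := by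
          rw [map_mul, map_mul, map_inv cc η⁻¹, hcca]
        intro h
        have h' : η * (cc (η⁻¹ * a * η⁻¹⁻¹)) * η⁻¹ = a := by
          rw [← e1]; refine Eq.trans ?_ h; group
        rcases hfour _ (hmemS η⁻¹ a ha) with h1 | h1 | h1 | h1
        · exact ha1 (conj_eq_one_iff.1 h1)
        · exact hηa (by
            have := congrArg (fun y => η * y * η⁻¹) h1
            refine this.symm.trans ?_
            group)
        · rw [h1, hccr] at h'
          have h2 : η * r * η⁻¹ = a := by rw [← h1]; group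
          have h3 : η * (a * r) * η⁻¹ = η * a * η⁻¹ * a := by
            rw [show η * (a * r) * η⁻¹ = η * a * η⁻¹ * (η * r * η⁻¹) by group, h2]
          rw [h3] at h'
          exact ha1 (conj_eq_one_iff.1 (mul_eq_right.1 h'))
        · rw [h1, map_mul, hcca, hccr, ← mul_assoc a a r, hsq a ha, one_mul] at h'
          have h2 : η * (a * r) * η⁻¹ = a := by rw [← h1]; group
          rw [show η * (a * r) * η⁻¹ = η * a * η⁻¹ * (η * r * η⁻¹) by group, h'] at h2
          exact ha1 (conj_eq_one_iff.1 (mul_eq_right.1 h2))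
      · rw [Subgroup.coe_mul, hcc_apply, Subgroup.coe_inv, ← mul_assoc, ← mul_assoc,
          show (η : J) * c * (η : J)⁻¹ * c⁻¹ = ⁅(η : J), c⁆ from rfl]
        exact commutator_mem_commutator (mem_top _) (mem_top _)
      · intro y hy
        have hle : S₂.map cc.toMonoidHom ≤ S₂ := by
          rintro _ ⟨x, hx, rfl⟩
          obtain ⟨s', hs', e'⟩ := hF₂.norm x hx
          exact (show cc x = s' from Subtype.ext ((hcc_apply x).trans e')) ▸ hs'
        obtain ⟨y', hy', rfl⟩ := (Subgroup.eq_of_le_of_card_ge hle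
          (Subgroup.card_map_of_injective cc.injective).ge).ge hy
        have h1 : Commute (cc η⁻¹) (cc y') := (Commute.inv_left (hη y' hy') : Commute η⁻¹ y').map cc
        exact (Commute.mul_left (show Commute η (cc y') from hη (cc y') hy) h1).eq
    -- push into the centralizer of the other closure
    obtain ⟨m₂, hm₂, hm₂J, hm₂L⟩ : ∃ m₂ : H, m₂ * a * m₂⁻¹ ≠ a ∧ (m₂ : J) ∈ commutator J ∧
        (m₂ : J) ∈ centralizer (cl S₂ : Set J) := by
      rcases closure_cases P.symm hF₂ hJ with ⟨hLS, -⟩ | ⟨F, iF, iT, -, -, ⟨f⟩, hperf⟩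
      · refine ⟨m₁, hm₁, hm₁J, mem_centralizer_iff.2 ?_⟩
        rintro _ ⟨y, hy, rfl⟩
        rw [SetLike.mem_coe, hLS] at hy
        exact (congrArg Subtype.val (hm₁L y hy)).symm
      · let eJ : cl S₂ ≃* Matrix.ProjectiveSpecialLinearGroup (Fin 2) F :=
          ((normalClosure (S₂ : Set H)).equivMapOfInjective H.subtype H.subtype_injective).symm.trans f
        obtain ⟨l, hl, hlC⟩ := exists_inner (cl S₂) eJ hm₁J
        have hlJ : l ∈ commutator J := by
          have h1 : cl S₂ ≤ commutator J := by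
            rw [cl, ← hperf, Subgroup.map_commutator, _root_.commutator_def]
            exact Subgroup.commutator_mono le_top le_top
          exact h1 hl
        refine ⟨⟨l⁻¹ * m₁, hcomm (mul_mem (inv_mem hlJ) hm₁J)⟩, fun h => hm₁ (Subtype.ext ?_),
          mul_mem (inv_mem hlJ) hm₁J, hlC⟩
        have h1 := congrArg Subtype.val h
        simp only [Subgroup.coe_mul, Subgroup.coe_inv] at h1 ⊢
        have hlx : l * ((m₁ : J) * a * (m₁ : J)⁻¹) = (m₁ : J) * a * (m₁ : J)⁻¹ * l := by
          refine mem_centralizer_iff.1 (hKL ⟨m₁ * a * m₁⁻¹, subset_normalClosure (hmemS m₁ a ha), ?_⟩) l hl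
          simp
        calc (m₁ : J) * a * (m₁ : J)⁻¹ = l⁻¹ * (m₁ : J) * a * (l⁻¹ * (m₁ : J))⁻¹ := by
              rw [show l⁻¹ * (m₁ : J) * a * (l⁻¹ * (m₁ : J))⁻¹ = l⁻¹ * ((m₁ : J) * a * (m₁ : J)⁻¹ * l) by
                group, ← hlx, inv_mul_cancel_left]
          _ = a := h1
    -- the orbit of `a`
    have horb : ∀ h : H, h * a * h⁻¹ ≠ a → h ^ 3 * a * (h ^ 3)⁻¹ = a ∧ h * (h * a * h⁻¹) * h⁻¹ = a * (h * a * h⁻¹) ∧
        ∀ x ∈ S₁, x = 1 ∨ x = a ∨ x = h * a * h⁻¹ ∨ x = a * (h * a * h⁻¹) := by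
      intro h hh
      set x := h * a * h⁻¹ with hx
      have hxS : x ∈ S₁ := hmemS h a ha
      have hcover : ∀ y ∈ S₁, y = 1 ∨ y = a ∨ y = x ∨ y = a * x := by
        rcases hfour x hxS with h1 | h1 | h1 | h1
        · exact absurd (conj_eq_one_iff.1 h1) ha1
        · exact absurd h1 hh
        · rw [h1]; exact hfour
        · intro y hy
          rw [h1, ← mul_assoc, hsq a ha, one_mul]
          rcases hfour y hy with e | e | e | e <;> simp [e]
      have hyS : h * x * h⁻¹ ∈ S₁ := hmemS h x hxS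
      have hy : h * x * h⁻¹ = a * x := by
        rcases hcover _ hyS with h1 | h1 | h1 | h1
        · exact absurd (conj_eq_one_iff.1 (hx ▸ conj_eq_one_iff.1 h1 : h * a * h⁻¹ = 1)) ha1
        · exfalso
          -- `h` squared fixes, and the index is odd
          have hstep : ∀ i : ℕ, h ^ (2 * i) * a * (h ^ (2 * i))⁻¹ = a := by
            intro i
            induction i with
            | zero => group
            | succ i ih =>
              rw [show h ^ (2 * (i + 1)) = h * h * h ^ (2 * i) by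
                rw [show 2 * (i + 1) = 2 + 2 * i by ring, pow_add, pow_two]]
              calc h * h * h ^ (2 * i) * a * (h * h * h ^ (2 * i))⁻¹
                  = h * (h * (h ^ (2 * i) * a * (h ^ (2 * i))⁻¹) * h⁻¹) * h⁻¹ := by group
                _ = a := by rw [ih, ← hx, h1]
          obtain ⟨i, hi⟩ := hCzo
          have hz := mem_centralizer_iff.1 (Cz.pow_index_mem h) a (subset_normalClosure ha)
          rw [hi, show h ^ (2 * i + 1) = h * h ^ (2 * i) from pow_succ' h (2 * i)] at hz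
          have h2 : h * h ^ (2 * i) * a * (h * h ^ (2 * i))⁻¹ = x := by
            calc h * h ^ (2 * i) * a * (h * h ^ (2 * i))⁻¹
                = h * (h ^ (2 * i) * a * (h ^ (2 * i))⁻¹) * h⁻¹ := by group
              _ = x := by rw [hstep]
          rw [← hz, mul_inv_cancel_right] at h2
          exact hh h2.symm
        · have h2 : h * x * h⁻¹ = h * a * h⁻¹ := h1.trans hx
          exact absurd (mul_left_cancel (mul_right_cancel h2)) hh
        · exact h1
      refine ⟨?_, hy, hcover⟩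
      calc h ^ 3 * a * (h ^ 3)⁻¹ = h * (h * (h * a * h⁻¹) * h⁻¹) * h⁻¹ := by
            rw [show h ^ 3 = h * h * h by rw [pow_succ, pow_two]]; group
        _ = h * a * h⁻¹ * (h * x * h⁻¹) := by
            conv_lhs => rw [← hx, hy]
            group
        _ = a := by rw [hy, ← hx, hab x hxS _ (mul_mem ha hxS), mul_assoc, hsq x hxS, mul_one]
    -- fixers lying in the centralizer of the other closure are in the Sylow subgroup
    have hN : ∀ y : H, y * a * y⁻¹ = a → (y : J) ∈ centralizer (cl S₂ : Set J) → y ∈ (T : Subgroup H) := by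
      intro y hy hyL
      refine P.centralizer_le (mem_inf.2 ⟨mem_centralizer_iff.2 fun x hx => ?_,
        mem_centralizer_iff.2 fun x hx => Subtype.ext (mem_centralizer_iff.1 hyL _ ⟨x, hx, rfl⟩)⟩)
      rw [SetLike.mem_coe, hKS] at hx
      have := hfix y hy x hx
      exact (mul_inv_eq_iff_eq_mul.1 this).symm
    obtain ⟨s, hs⟩ := IsPGroup.iff_orderOf.1 T.2 ⟨_, hN _ (horb m₂ hm₂).1
      (by rw [Subgroup.coe_pow]; exact pow_mem hm₂L 3)⟩
    rw [Subgroup.orderOf_mk] at hs
    obtain ⟨m, hm⟩ : ∃ m : H, m = m₂ ^ 2 ^ s := ⟨_, rfl⟩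
    have hm3 : m ^ 3 = 1 := by
      rw [hm, ← pow_mul, mul_comm, pow_mul, ← hs, pow_orderOf_eq_one]
    have hma : m * a * m⁻¹ ≠ a := by
      intro h
      refine hm₂ ?_
      have e1 : m₂ ^ 3 ∈ centralizer ({a} : Set H) :=
        mem_centralizer_singleton_iff.2 (mul_inv_eq_iff_eq_mul.1 (horb m₂ hm₂).1)
      have e2 : m ∈ centralizer ({a} : Set H) := mem_centralizer_singleton_iff.2 (mul_inv_eq_iff_eq_mul.1 h)
      obtain ⟨u, v, huv⟩ : IsCoprime (3 : ℤ) ((2 ^ s : ℕ) : ℤ) :=
        Nat.isCoprime_iff_coprime.2 (Nat.Coprime.pow_right s (by norm_num))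
      have e3 : m₂ = (m₂ ^ 3) ^ u * m ^ v := by
        rw [hm, ← zpow_natCast m₂ 3, ← zpow_natCast m₂ (2 ^ s), ← zpow_mul, ← zpow_mul, ← zpow_add,
          show ((3 : ℕ) : ℤ) * u + ((2 ^ s : ℕ) : ℤ) * v = 1 by push_cast at huv ⊢; linear_combination huv,
          zpow_one]
      have e4 : m₂ ∈ centralizer ({a} : Set H) := e3 ▸ mul_mem (zpow_mem e1 u) (zpow_mem e2 v)
      exact mul_inv_eq_iff_eq_mul.2 (mem_centralizer_singleton_iff.1 e4)
    have hmo : orderOf (m : J) = 3 := by
      rw [Subgroup.orderOf_coe]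
      refine orderOf_eq_prime hm3 fun h => hma (by rw [h]; group)
    have hmL : (m : J) ∈ centralizer (cl S₂ : Set J) := by
      rw [hm, Subgroup.coe_pow]; exact pow_mem hm₂L _
    have hmJ : (m : J) ∈ commutator J := by
      rw [hm, Subgroup.coe_pow]; exact pow_mem hm₂J _
    have hexp : ∀ h : H, ∃ i : ℕ, (m ^ i)⁻¹ * h * a * ((m ^ i)⁻¹ * h)⁻¹ = a := by
      intro h
      suffices h' : ∃ i : ℕ, h * a * h⁻¹ = m ^ i * a * (m ^ i)⁻¹ by
        obtain ⟨i, hi⟩ := h'
        refine ⟨i, ?_⟩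
        rw [show (m ^ i)⁻¹ * h * a * ((m ^ i)⁻¹ * h)⁻¹ = (m ^ i)⁻¹ * (h * a * h⁻¹) * m ^ i by group, hi]
        group
      obtain ⟨-, h2, h3⟩ := horb m hma
      rcases h3 _ (hmemS h a ha) with e | e | e | e
      · exact absurd (conj_eq_one_iff.1 e) ha1
      · exact ⟨0, by rw [e]; group⟩
      · exact ⟨1, by rw [e, pow_one]⟩
      · exact ⟨2, by rw [e, ← h2, pow_two]; group⟩
    set M : Subgroup J := cl S₁ ⊔ zpowers (m : J) with hM
    have hMmem : ∀ x ∈ M, ∃ s₁ ∈ S₁, ∃ i : ℕ, x = (s₁ : J) * (m : J) ^ i := by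
      intro x hx
      have hx' : x ∈ (M : Set J) := hx
      rw [hM, Subgroup.normal_mul] at hx'
      obtain ⟨y, hy, w, hw, rfl⟩ := hx'
      rw [SetLike.mem_coe, hcl] at hy
      obtain ⟨s₁, hs₁, rfl⟩ := hy
      obtain ⟨i, -, rfl⟩ := (isOfFinOrder_of_finite (m : J)).mem_zpowers_iff_mem_range_orderOf.trans
        Finset.mem_image |>.1 hw
      exact ⟨s₁, hs₁, i, rfl⟩
    have hm' : ∀ i : ℕ, (m : J) ^ i ∈ M := fun i => pow_mem (mem_sup_right (mem_zpowers _)) i
    have hS₁M : ∀ x ∈ S₁, (x : J) ∈ M := fun x hx =>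
      mem_sup_left ⟨x, subset_normalClosure hx, rfl⟩
    have hMn : M.Normal := by
      rw [← normalizer_eq_top_iff, ← top_le_iff]
      intro g _
      have hgm : ∀ g : J, g * (m : J) * g⁻¹ ∈ M := by
        intro g
        set y₀ : H := ⟨g * (m : J) * g⁻¹, Normal.conj_mem inferInstance _ m.2 g⟩ with hy₀
        have hy₀L : (y₀ : J) ∈ centralizer (cl S₂ : Set J) := by
          have : (centralizer (cl S₂ : Set J)).Normal := inferInstance
          exact this.conj_mem _ hmL g
        obtain ⟨i, hi⟩ := hexp y₀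
        have hyT := hN _ hi (by
          rw [Subgroup.coe_mul, Subgroup.coe_inv, Subgroup.coe_pow]
          exact mul_mem (inv_mem (pow_mem hmL i)) hy₀L)
        obtain ⟨p, hp, q, hq, hpq⟩ := P.decomp hyT
        have hqm : Commute q (m ^ i * p) := by
          refine Commute.mul_right (Commute.pow_right ?_ i) (P.prod.2.2.1 p hp q hq).symm
          exact Subtype.ext (mem_centralizer_iff.1 hmL _ ⟨q, subset_normalClosure hq, rfl⟩)
        have hy₀eq : y₀ = m ^ i * p * q := by rw [mul_assoc, ← hpq, mul_inv_cancel_left]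
        have h3 : y₀ ^ 3 = 1 := Subtype.ext (by
          rw [Subgroup.coe_pow, hy₀, conj_pow, ← Subgroup.coe_pow, hm3]
          simp)
        rw [hy₀eq, hqm.symm.mul_pow] at h3
        have hcube : (m ^ i * p) ^ 3 ∈ S₁ := by
          have e3 : (m ^ i * p) ^ 3 = (m ^ i * p * (m ^ i)⁻¹) * (m ^ i * (m ^ i * p * (m ^ i)⁻¹) * (m ^ i)⁻¹) *
              ((m ^ i) ^ 3 * p) := by
            rw [show (m ^ i * p) ^ 3 = m ^ i * p * (m ^ i * p) * (m ^ i * p) by rw [pow_succ, pow_two],
              show (m ^ i) ^ 3 = m ^ i * m ^ i * m ^ i by rw [pow_succ, pow_two]]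
            group
          rw [e3, ← pow_mul, mul_comm i 3, pow_mul, hm3, one_pow, one_mul]
          exact mul_mem (mul_mem (hmemS _ p hp) (hmemS _ _ (hmemS _ p hp))) hp
        have hq3 : q ^ 3 = 1 := P.eq_one_of_mem (by
          rw [eq_inv_of_mul_eq_one_right h3]; exact inv_mem hcube) (pow_mem hq 3)
        have hq1 : q = 1 := by
          obtain ⟨j, hj⟩ := IsPGroup.iff_orderOf.1 T.2 ⟨q, P.prod.2.1 hq⟩
          rw [Subgroup.orderOf_mk] at hj
          refine orderOf_eq_one_iff.1 (Nat.eq_one_of_dvd_coprimes ?_ (dvd_of_eq hj) (orderOf_dvd_of_pow_eq_one hq3))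
          exact Nat.Coprime.pow_left j (by norm_num)
        show g * (m : J) * g⁻¹ ∈ M
        rw [show g * (m : J) * g⁻¹ = (y₀ : J) from rfl, hy₀eq, hq1, mul_one, Subgroup.coe_mul,
          Subgroup.coe_pow]
        exact mul_mem (hm' i) (hS₁M p hp)
      have hle : ∀ g : J, ∀ x ∈ M, g * x * g⁻¹ ∈ M := by
        intro g x hx
        obtain ⟨s₁, hs₁, i, rfl⟩ := hMmem x hx
        rw [show g * ((s₁ : J) * (m : J) ^ i) * g⁻¹ = g * (s₁ : J) * g⁻¹ * (g * (m : J) * g⁻¹) ^ i by
          rw [conj_pow]; group]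
        refine mul_mem (mem_sup_left (hKn.conj_mem _ ⟨s₁, subset_normalClosure hs₁, rfl⟩ g)) (pow_mem (hgm g) i)
      rw [mem_normalizer_iff]
      intro x
      refine ⟨hle g x, fun h => ?_⟩
      have := hle g⁻¹ _ h
      rwa [show g⁻¹ * (g * x * g⁻¹) * g⁻¹⁻¹ = x by group] at this
    have hfix0 : ∀ i : ℕ, m ^ i * a * (m ^ i)⁻¹ = a → m ^ i = 1 := by
      intro i hi
      rw [← Nat.mod_add_div i 3, pow_add, pow_mul, hm3, one_pow, mul_one] at hi ⊢
      obtain ⟨-, h2, -⟩ := horb m hma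
      have : i % 3 = 0 ∨ i % 3 = 1 ∨ i % 3 = 2 := by omega
      rcases this with e | e | e <;> rw [e] at hi ⊢
      · exact pow_zero m
      · rw [pow_one] at hi; exact absurd hi hma
      · exfalso
        rw [pow_two, show m * m * a * (m * m)⁻¹ = m * (m * a * m⁻¹) * m⁻¹ by group, h2, mul_eq_left,
          conj_eq_one_iff] at hi
        exact ha1 hi
    have hMH : M ≤ H := sup_le (Subgroup.map_subtype_le _) (zpowers_le.2 m.2)
    have hMC : M ≤ centralizer (cl S₂ : Set J) := sup_le hKL (zpowers_le.2 hmL)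
    refine ⟨M, hMn, hMH, ?_, le_sup_left, hMC, ?_, ?_, Or.inr ?_⟩
    · -- in the commutator subgroup
      refine sup_le ?_ (zpowers_le.2 hmJ)
      rw [hcl]
      rintro _ ⟨x, hx, rfl⟩
      obtain ⟨-, h2, h3⟩ := horb m hma
      have hx₁ := hmemS m a ha
      have hcomm' : ∀ y : H, ((m * y * m⁻¹ * y⁻¹ : H) : J) ∈ commutator J := fun y => by
        simp only [Subgroup.coe_mul, Subgroup.coe_inv]
        exact commutator_mem_commutator (mem_top _) (mem_top _)
      have haJ : (a : J) ∈ commutator J := by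
        have := hcomm' (m * a * m⁻¹)
        rwa [h2, mul_inv_cancel_right] at this
      have hxJ : ((m * a * m⁻¹ : H) : J) ∈ commutator J := by
        have h4 := mul_mem (hcomm' a) haJ
        rwa [← Subgroup.coe_mul, inv_mul_cancel_right] at h4
      show (x : J) ∈ commutator J
      rcases h3 x hx with rfl | rfl | rfl | rfl
      · rw [Subgroup.coe_one]; exact one_mem _
      · exact haJ
      · exact hxJ
      · rw [Subgroup.coe_mul]; exact mul_mem haJ hxJ
    · intro x hxT hxM
      obtain ⟨s₁, hs₁, i, he⟩ := hMmem _ hxM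
      have he' : x = s₁ * m ^ i := Subtype.ext (by simpa using he)
      have hmT : m ^ i ∈ (T : Subgroup H) := by
        rw [show m ^ i = s₁⁻¹ * x by rw [he', inv_mul_cancel_left]]
        exact mul_mem (inv_mem (P.prod.1 hs₁)) hxT
      obtain ⟨j, hj⟩ := IsPGroup.iff_orderOf.1 T.2 ⟨_, hmT⟩
      rw [Subgroup.orderOf_mk] at hj
      have h1 : m ^ i = 1 := orderOf_eq_one_iff.1 (Nat.eq_one_of_dvd_coprimes
        (Nat.Coprime.pow_left j (by norm_num : Nat.Coprime 2 3)) (dvd_of_eq hj)
        ((orderOf_pow_dvd i).trans (orderOf_dvd_of_pow_eq_one hm3)))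
      rw [he', h1, mul_one]
      exact hs₁
    · intro j hj
      obtain ⟨i, hi⟩ := hexp ⟨j, hcomm hj⟩
      refine ⟨_, hm' i, ?_⟩
      rw [hcl, mem_centralizer_iff]
      rintro _ ⟨x, hx, rfl⟩
      have := congrArg Subtype.val (mul_inv_eq_iff_eq_mul.1 (hfix _ hi x hx))
      simpa using this.symm
    · have hclc : Nat.card (cl S₁) = 4 := by
        rw [hcl, Subgroup.card_map_of_injective H.subtype_injective, h4]
      refine ⟨?_, (cl S₁).subgroupOf M, inferInstance, ?_, ?_, ?_⟩
      · have h1 := Cores.card_sup_mul_card_inf (zpowers (m : J)) (cl S₁)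
        rw [sup_comm, ← hM, Nat.card_zpowers, hmo, hclc] at h1
        have h2 : Nat.card ↥(zpowers (m : J) ⊓ cl S₁) = 1 := Nat.eq_one_of_dvd_coprimes
          (by norm_num : Nat.Coprime 3 4)
          (by rw [← hmo, ← Nat.card_zpowers]; exact Subgroup.card_dvd_of_le inf_le_left)
          (by rw [← hclc]; exact Subgroup.card_dvd_of_le inf_le_right)
        rw [h2, mul_one] at h1
        exact h1
      · rw [Nat.card_congr (Subgroup.subgroupOfEquivOfLe (le_sup_left : cl S₁ ≤ M)).toEquiv, hclc]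
      · intro x hx
        obtain ⟨y, hy, hye⟩ := hcl.le (mem_subgroupOf.1 hx)
        apply Subtype.ext
        show (x : J) * x = 1
        rw [← hye]
        exact congrArg Subtype.val (hsq y hy)
      · intro x hx
        obtain ⟨s₁, hs₁, i, he⟩ := hMmem _ x.2
        have hax : (⟨(a : J), hS₁M a ha⟩ : M) * x = x * ⟨(a : J), hS₁M a ha⟩ :=
          mem_centralizer_iff.1 hx _ (mem_subgroupOf.2 ⟨a, subset_normalClosure ha, rfl⟩)
        have hax' : a * (s₁ * m ^ i) = s₁ * m ^ i * a := Subtype.ext (by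
          have h1 := congrArg Subtype.val hax
          simp only [Subgroup.coe_mul, Subgroup.coe_pow] at h1 ⊢
          rw [← he]; exact h1)
        have hi : m ^ i = 1 := hfix0 i (by
          rw [mul_inv_eq_iff_eq_mul]
          rw [← mul_assoc, hab a ha s₁ hs₁, mul_assoc, mul_assoc] at hax'
          exact (mul_left_cancel hax').symm)
        refine mem_subgroupOf.2 (hcl.ge ⟨s₁, hs₁, ?_⟩)
        rw [he, ← Subgroup.coe_pow, hi]
        simp

end Cfsg.Agent.G2Cent
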