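import Cfsg.Agent.Lib.G2Cent.Facts
import Cfsg.Agent.Lib.G2Cent.Side
import Cfsg.Agent.Lib.Classical.CyclicExt
import Cfsg.Agent.Lib.Cores.Nilpotent
import Cfsg.Agent.GStructB.ProductFusion.DD.Main

/-!
The model inside the quotient of the centralizer: the two factors and their fusion.
-/

set_option autoImplicit false
set_option linter.unusedSectionVars false

open Subgroup

namespace Cfsg.Agent.G2Cent

open Cfsg.Agent.G2Type Cfsg.Agent.G2Type.Mdl

/-- A subgroup generated by a rotation and a reflection is dihedral. -/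
theorem exists_dihedral_equiv {X : Type*} [Group X] [Finite X] (S : Subgroup X) {x y : X} {n : ℕ}
    (hn : 0 < n) (hx : orderOf x = n) (hy : y * y = 1) (hxy : y * x * y⁻¹ = x⁻¹) (hyx : y ∉ zpowers x)
    (hxS : x ∈ S) (hyS : y ∈ S) (hgen : ∀ s ∈ S, s ∈ closure ({x, y} : Set X)) :
    Nonempty (S ≃* DihedralGroup n) := by
  have : NeZero n := ⟨hn.ne'⟩
  obtain ⟨f, hf, hxf, hyf⟩ := Classical.CyclicExt.exists_dihedral_hom x y hx hy hxy hyx
  have hle : S ≤ f.range := fun s hs => (closure_le f.range).2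
    (Set.insert_subset hxf (Set.singleton_subset_iff.2 hyf)) (hgen s hs)
  have hc : Nat.card f.range = 2 * n := by
    rw [← Nat.card_congr (MonoidHom.ofInjective hf).toEquiv, DihedralGroup.nat_card]
  have h1 : n ∣ Nat.card S := hx ▸ Subgroup.orderOf_dvd_natCard S hxS
  have h2 : Nat.card S ∣ 2 * n := hc ▸ Subgroup.card_dvd_of_le hle
  have h3 : n < Nat.card S := by
    refine lt_of_le_of_ne (Nat.le_of_dvd Nat.card_pos h1) fun h => hyx ?_
    rw [Subgroup.eq_of_le_of_card_ge (zpowers_le.2 hxS) (by rw [Nat.card_zpowers, hx, ← h])]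
    exact hyS
  obtain ⟨m, hm⟩ := h1
  rw [hm, mul_comm 2 n] at h2
  have hm2 : m ≤ 2 := Nat.le_of_dvd two_pos (Nat.dvd_of_mul_dvd_mul_left hn h2)
  have hm' : 2 ≤ m := by
    by_contra hlt
    have : n * m ≤ n * 1 := Nat.mul_le_mul_left _ (by omega)
    omega
  have : S = f.range := Subgroup.eq_of_le_of_card_ge hle (by rw [hc, hm, show m = 2 by omega]; omega)
  exact ⟨(MulEquiv.subgroupCongr this).trans (MonoidHom.ofInjective hf).symm⟩

/-- For `n ≥ 3` a dihedral group has at most one nontrivial central element. -/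
theorem dihedral_central {n : ℕ} (hn : 3 ≤ n) {a b : DihedralGroup n} (ha : ∀ y, a * y = y * a)
    (hb : ∀ y, b * y = y * b) (ha1 : a ≠ 1) (hb1 : b ≠ 1) : a = b := by
  have : NeZero n := ⟨by omega⟩
  have key : ∀ c : DihedralGroup n, (∀ y, c * y = y * c) → c ≠ 1 →
      ∃ i : ZMod n, c = DihedralGroup.r i ∧ 2 * i.val = n := by
    intro c hc hc1
    cases c with
    | sr i =>
      exfalso
      have h1 := hc (DihedralGroup.r 1)
      simp only [DihedralGroup.r_mul_sr, DihedralGroup.sr_mul_r, DihedralGroup.sr.injEq] at h1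
      have h2 : ((2 : ℕ) : ZMod n) = 0 := by push_cast; linear_combination h1
      have := Nat.le_of_dvd two_pos ((ZMod.natCast_eq_zero_iff _ _).1 h2)
      omega
    | r i =>
      refine ⟨i, rfl, ?_⟩
      have h1 := hc (DihedralGroup.sr 0)
      simp only [DihedralGroup.r_mul_sr, DihedralGroup.sr_mul_r, DihedralGroup.sr.injEq, zero_sub,
        zero_add] at h1
      have h2 : ((2 * i.val : ℕ) : ZMod n) = 0 := by
        push_cast
        rw [ZMod.natCast_zmod_val]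
        linear_combination -h1
      obtain ⟨d, hd⟩ := (ZMod.natCast_eq_zero_iff _ _).1 h2
      have hlt := ZMod.val_lt i
      have hd0 : d ≠ 0 := fun h => hc1 (by
        rw [show i = 0 from (ZMod.val_eq_zero i).1 (by subst h; omega)]; rfl)
      have : d = 1 := by
        by_contra h
        have : n * 2 ≤ n * d := Nat.mul_le_mul_left _ (by omega)
        omega
      subst this
      omega
  obtain ⟨i, rfl, hi⟩ := key a ha ha1
  obtain ⟨j, rfl, hj⟩ := key b hb hb1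
  rw [show i = j from ZMod.val_injective n (by omega)]

variable {k : ℕ} [NeZero k] {J : Type*} [Group J] [Finite J]

/-- The model in the quotient of the centralizer. -/
structure Setting (μ : Mdl (4 * k) →* J) (H : Subgroup J) (T : Sylow 2 H) : Prop where
  ker : ∀ x, μ x = 1 ↔ x = 1 ∨ x = zE k
  mem : ∀ x, μ x ∈ H ↔ x ∈ Facts.even k
  range : ∀ y : H, y ∈ (T : Subgroup H) ↔ ∃ x ∈ Facts.even k, μ x = (y : J)
  core : Cfsg.oddCore H = ⊥
  fus : ∀ x ∈ Facts.even k, x * x = 1 → x ≠ 1 → x ≠ zE k → ∃ h ∈ H, h * μ x * h⁻¹ = μ (eE k)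
  sq : ∀ x y, IsConj (μ x) (μ y) → x * x = 1 → y * y = 1

namespace Setting

variable {μ : Mdl (4 * k) →* J} {H : Subgroup J} {T : Sylow 2 H} (M : Setting μ H T)

/-- A factor, in `H`. -/
def S (_ : Setting μ H T) (F : Subgroup (Mdl (4 * k))) : Subgroup H := (F.map μ).subgroupOf H

include M

theorem μz : μ (zE k) = 1 := (M.ker _).2 (Or.inr rfl)

/-- The element `μ x` of `H`. -/
theorem exists_elt {x : Mdl (4 * k)} (hx : x ∈ Facts.even k) : ∃ y : H, (y : J) = μ x :=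
  ⟨⟨μ x, (M.mem x).2 hx⟩, rfl⟩

omit M in
theorem mem_S (M : Setting μ H T) {F : Subgroup (Mdl (4 * k))} {s : H} :
    s ∈ M.S F ↔ ∃ x ∈ F, μ x = (s : J) := Iff.rfl

theorem S_le {F : Subgroup (Mdl (4 * k))} (hF : F ≤ Facts.even k) : M.S F ≤ (T : Subgroup H) :=
  fun s ⟨x, hx, e⟩ => (M.range s).2 ⟨x, hF hx, e⟩

theorem eq_or_of_μ {a b : Mdl (4 * k)} (h : μ a = μ b) : a = b ∨ a = b * zE k := by
  have : μ (b⁻¹ * a) = 1 := by rw [map_mul, map_inv, h, inv_mul_cancel]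
  rcases (M.ker _).1 this with e | e
  · exact Or.inl (inv_mul_eq_one.1 e).symm
  · exact Or.inr (eq_mul_of_inv_mul_eq e)

theorem zE_mem1 : zE k ∈ Facts.fac1 k := ⟨rfl, rfl⟩
theorem zE_mem2 : zE k ∈ Facts.fac2 k := ⟨rfl, by show (0 : ZMod (4 * k)) + 2 * hh k = 0; rw [two_hh, add_zero]⟩

theorem commute {a b : H} (ha : a ∈ M.S (Facts.fac1 k)) (hb : b ∈ M.S (Facts.fac2 k)) : a * b = b * a := by
  obtain ⟨x, hx, ex⟩ := ha
  obtain ⟨y, hy, ey⟩ := hb
  apply Subtype.ext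
  rw [Subgroup.coe_mul, Subgroup.coe_mul, ← show μ x = (a : J) from ex, ← show μ y = (b : J) from ey,
    ← map_mul, ← map_mul, Facts.commute_fac hx hy]

theorem disjoint {s : H} (h1 : s ∈ M.S (Facts.fac1 k)) (h2 : s ∈ M.S (Facts.fac2 k)) : s = 1 := by
  obtain ⟨x, hx, ex⟩ := h1
  obtain ⟨y, hy, ey⟩ := h2
  have hxy : x ∈ Facts.fac2 k := by
    rcases M.eq_or_of_μ (ex.trans ey.symm) with rfl | rfl
    · exact hy
    · exact mul_mem hy M.zE_mem2
  exact Subtype.ext (ex.symm.trans ((M.ker x).2 (Facts.fac_inf hx hxy)))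

theorem prod : Cfsg.IsInternalDirectProduct (M.S (Facts.fac1 k)) (M.S (Facts.fac2 k)) (T : Subgroup H) := by
  refine ⟨M.S_le Facts.fac1_le, M.S_le Facts.fac2_le, fun a ha b hb => M.commute ha hb,
    (eq_bot_iff_forall _).2 fun s hs => M.disjoint hs.1 hs.2,
    le_antisymm (sup_le (M.S_le Facts.fac1_le) (M.S_le Facts.fac2_le)) fun t ht => ?_⟩
  obtain ⟨x, hx, ex⟩ := (M.range t).1 ht
  obtain ⟨a, ha, b, hb, rfl⟩ := Facts.exists_fac_mul hx
  obtain ⟨a', ea⟩ := M.exists_elt (Facts.fac1_le ha)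
  obtain ⟨b', eb⟩ := M.exists_elt (Facts.fac2_le hb)
  rw [show t = a' * b' from Subtype.ext (by rw [Subgroup.coe_mul, ea, eb, ← map_mul, ex])]
  exact mul_mem (mem_sup_left ⟨a, ha, ea.symm⟩) (mem_sup_right ⟨b, hb, eb.symm⟩)

/-- Lifts of nontrivial elements of a factor are not involutions. -/
theorem lift_ne {x : Mdl (4 * k)} (hx : x ∈ Facts.fac1 k ∨ x ∈ Facts.fac2 k) (h : μ x ≠ 1) : x * x ≠ 1 :=
  fun e => h ((M.ker x).2 (hx.elim (fun hx => Facts.fac1_sq hx e) fun hx => Facts.fac2_sq hx e))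

theorem dihedral_aux (F : Subgroup (Mdl (4 * k))) (r y : Mdl (4 * k)) (hFe : F ≤ Facts.even k)
    (hr : r ∈ F) (hy : y ∈ F) (hr0 : r.i = false ∧ r.j = false) (hy0 : ¬ (y.i = false ∧ y.j = false))
    (hrp : r ^ (2 * k) = zE k) (hys : y * y = zE k) (hyr : y * r * y⁻¹ = r⁻¹)
    {ε : ℕ} (hk : k = 2 ^ ε) (heq : ∀ x ∈ F, ∃ n : ℕ, x = r ^ n ∨ x = r ^ n * y) :
    Nonempty (M.S F ≃* DihedralGroup (2 * k)) := by
  have hk0 := NeZero.pos k
  classical
  obtain ⟨r', er⟩ := M.exists_elt (hFe hr)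
  obtain ⟨y', ey⟩ := M.exists_elt (hFe hy)
  have ho : orderOf r' = 2 * k := by
    rw [← Subgroup.orderOf_coe, er]
    refine (show 2 * k = 2 ^ (ε + 1) by rw [hk]; ring) ▸ orderOf_eq_prime_pow ?_ ?_
    · rw [← hk, ← map_pow, M.ker]
      rintro (h | h)
      · have := congrArg (· ^ 2) h
        simp only [← pow_mul, one_pow, mul_comm k 2, hrp] at this
        exact zE_ne this
      · have := congrArg (· ^ 2) h
        simp only [← pow_mul, mul_comm k 2, hrp] at this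
        rw [pow_two, zE_sq] at this
        exact zE_ne this
    · rw [pow_succ, ← hk, ← map_pow, show r ^ (k * 2) = r ^ (2 * k) from congrArg (r ^ ·) (mul_comm k 2), hrp, M.μz]
  refine exists_dihedral_equiv (M.S F) (x := r') (y := y') (by omega) ho ?_ ?_ ?_ ⟨r, hr, er.symm⟩
    ⟨y, hy, ey.symm⟩ ?_
  · apply Subtype.ext
    rw [Subgroup.coe_mul, ey, ← map_mul, hys, M.μz, Subgroup.coe_one]
  · apply Subtype.ext
    rw [Subgroup.coe_mul, Subgroup.coe_mul, Subgroup.coe_inv, Subgroup.coe_inv, ey, er, ← map_inv,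
      ← map_mul, ← map_mul, hyr, map_inv]
  · intro h
    obtain ⟨n, -, hn⟩ := (isOfFinOrder_of_finite r').mem_zpowers_iff_mem_range_orderOf.trans
      Finset.mem_image |>.1 h
    have e : μ (r ^ n) = μ y := by rw [map_pow, ← er, ← ey, ← Subgroup.coe_pow]; exact congrArg Subtype.val hn
    have hpow : ∀ n : ℕ, (r ^ n).i = false ∧ (r ^ n).j = false := by
      intro n
      obtain ⟨a, b, i, j⟩ := r
      obtain ⟨rfl, rfl⟩ := hr0
      rw [Facts.rot_pow]
      exact ⟨rfl, rfl⟩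
    rcases M.eq_or_of_μ e with h' | h'
    · exact hy0 (h' ▸ hpow n)
    · refine hy0 ?_
      have h'' : y = r ^ n * zE k := by rw [h', mul_assoc, zE_sq, mul_one]
      obtain ⟨e1, e2⟩ := hpow n
      rw [h'']
      generalize r ^ n = w at e1 e2
      obtain ⟨a, b, i, j⟩ := w
      simp only at e1 e2
      subst e1 e2
      exact ⟨rfl, rfl⟩
  · rintro s ⟨x, hx, ex⟩
    have hrc : r' ∈ closure ({r', y'} : Set H) := Subgroup.subset_closure (Or.inl rfl)
    have hyc : y' ∈ closure ({r', y'} : Set H) := Subgroup.subset_closure (Or.inr rfl)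
    obtain ⟨n, rfl | rfl⟩ := heq x hx
    · rw [show s = r' ^ n from Subtype.ext (by rw [Subgroup.coe_pow, er, ← map_pow]; exact ex.symm)]
      exact pow_mem hrc n
    · rw [show s = r' ^ n * y' from Subtype.ext (by
        rw [Subgroup.coe_mul, Subgroup.coe_pow, er, ey, ← map_pow, ← map_mul]; exact ex.symm)]
      exact mul_mem (pow_mem hrc n) hyc

theorem dihedral1 {ε : ℕ} (hk : k = 2 ^ ε) : Nonempty (M.S (Facts.fac1 k) ≃* DihedralGroup (2 * k)) :=
  M.dihedral_aux _ (Facts.rot1 k) (Facts.ref1 k) Facts.fac1_le Facts.rot1_mem Facts.ref1_mem ⟨rfl, rfl⟩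
    (by simp [Facts.ref1]) Facts.rot1_pow Facts.ref1_sq Facts.ref1_rot1 hk fun x hx => Facts.fac1_eq hx

theorem dihedral2 {ε : ℕ} (hk : k = 2 ^ ε) : Nonempty (M.S (Facts.fac2 k) ≃* DihedralGroup (2 * k)) :=
  M.dihedral_aux _ (Facts.rot2 k) (Facts.ref2 k) Facts.fac2_le Facts.rot2_mem Facts.ref2_mem ⟨rfl, rfl⟩
    (by simp [Facts.ref2]) Facts.rot2_pow Facts.ref2_sq Facts.ref2_rot2 hk fun x hx => Facts.fac2_eq hx

theorem eE_even : eE k ∈ Facts.even k := Facts.mem_even.2 (by simp [eE, par_hh])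

theorem μ_z1z2 : μ (Facts.z1 k) * μ (Facts.z2 k) = μ (eE k) := by
  rw [← map_mul, Facts.z1_mul_z2, map_mul, M.μz, mul_one]

theorem μz1_ne : μ (Facts.z1 k) ≠ 1 := by
  rw [Ne, M.ker]
  rintro (h | h) <;> have := congrArg (fun x => x * x) h <;> simp [Facts.z1_sq, zE_sq, zE_ne] at this

theorem μz2_ne : μ (Facts.z2 k) ≠ 1 := by
  rw [Ne, M.ker]
  rintro (h | h) <;> have := congrArg (fun x => x * x) h <;> simp [Facts.z2_sq, zE_sq, zE_ne] at this

/-- An involution of `T` without involutions above it lies in one of the factors. -/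
theorem mem_or {x : Mdl (4 * k)} (hx : x ∈ Facts.even k) {s : H} (hs : μ x = (s : J)) (hs2 : s * s = 1)
    (hne : x * x ≠ 1) : s ∈ M.S (Facts.fac1 k) ∨ s ∈ M.S (Facts.fac2 k) := by
  obtain ⟨a, ha, b, hb, rfl⟩ := Facts.exists_fac_mul hx
  obtain ⟨a', ea⟩ := M.exists_elt (Facts.fac1_le ha)
  obtain ⟨b', eb⟩ := M.exists_elt (Facts.fac2_le hb)
  have hab : s = a' * b' := Subtype.ext (by rw [Subgroup.coe_mul, ea, eb, ← map_mul, hs])
  have hc : a' * b' = b' * a' := M.commute ⟨a, ha, ea.symm⟩ ⟨b, hb, eb.symm⟩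
  have h1 : a' * a' = (b' * b')⁻¹ := by
    rw [eq_inv_iff_mul_eq_one, ← hs2, hab]
    calc a' * a' * (b' * b') = a' * (a' * b') * b' := by group
      _ = a' * (b' * a') * b' := by rw [hc]
      _ = _ := by group
  have h2 : a' * a' = 1 := by
    refine M.disjoint ⟨a * a, mul_mem ha ha, ?_⟩ ?_
    · show μ (a * a) = ((a' * a' : H) : J)
      rw [map_mul, Subgroup.coe_mul, ea]
    · rw [h1]
      refine inv_mem ⟨b * b, mul_mem hb hb, ?_⟩
      show μ (b * b) = ((b' * b' : H) : J)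
      rw [map_mul, Subgroup.coe_mul, eb]
  have h3 : b' * b' = 1 := by rw [h2, eq_comm, inv_eq_one] at h1; exact h1
  have hsq : ∀ {c : Mdl (4 * k)} {c' : H}, (c' : J) = μ c → c' * c' = 1 → c * c = 1 ∨ c * c = zE k := by
    intro c c' ec h
    exact (M.ker _).1 (by rw [map_mul, ← ec, ← Subgroup.coe_mul, h, Subgroup.coe_one])
  rcases hsq ea h2 with ha' | ha'
  · refine Or.inr ?_
    have : a' = 1 := Subtype.ext (ea.trans ((M.ker a).2 (Facts.fac1_sq ha ha')))
    rw [hab, this, one_mul]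
    exact ⟨b, hb, eb.symm⟩
  rcases hsq eb h3 with hb' | hb'
  · refine Or.inl ?_
    have : b' = 1 := Subtype.ext (eb.trans ((M.ker b).2 (Facts.fac2_sq hb hb')))
    rw [hab, this, mul_one]
    exact ⟨a, ha, ea.symm⟩
  · exfalso
    refine hne ?_
    calc a * b * (a * b) = a * (b * a) * b := by group
      _ = a * (a * b) * b := by rw [Facts.commute_fac ha hb]
      _ = a * a * (b * b) := by group
      _ = 1 := by rw [ha', hb', zE_sq]

/-- The involutions of a factor fuse. -/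
theorem fuse1 (P : Pair T (M.S (Facts.fac1 k)) (M.S (Facts.fac2 k))) (Z1 : H)
    (hZ1 : (Z1 : J) = μ (Facts.z1 k)) {r : H} (hr : r ∈ M.S (Facts.fac1 k)) (hr2 : orderOf r = 2) :
    IsConj r Z1 := by
  obtain ⟨x, hx, ex⟩ := M.mem_S.1 hr
  obtain ⟨Z2, hZ2⟩ := M.exists_elt (Facts.fac2_le Facts.z2_mem)
  have hr1 : r ≠ 1 := fun h => by rw [h, orderOf_one] at hr2; norm_num at hr2
  have hxne : μ x ≠ 1 := fun h => hr1 (Subtype.ext (ex.symm.trans h))
  have hx2 : x * x = zE k := by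
    refine ((M.ker _).1 ?_).resolve_left (M.lift_ne (Or.inl hx) hxne)
    rw [map_mul, ex, ← Subgroup.coe_mul, ← pow_two, ← hr2, pow_orderOf_eq_one, Subgroup.coe_one]
  have hsq : x * Facts.z2 k * (x * Facts.z2 k) = 1 := by
    calc x * Facts.z2 k * (x * Facts.z2 k) = x * (Facts.z2 k * x) * Facts.z2 k := by group
      _ = x * (x * Facts.z2 k) * Facts.z2 k := by rw [Facts.commute_fac hx Facts.z2_mem]
      _ = x * x * (Facts.z2 k * Facts.z2 k) := by group
      _ = 1 := by rw [hx2, Facts.z2_sq, zE_sq]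
  have hn : μ (x * Facts.z2 k) ≠ 1 := by
    rw [map_mul, ex, ← hZ2, ← Subgroup.coe_mul]
    intro h
    have h' : r * Z2 = 1 := Subtype.ext h
    refine hr1 (M.disjoint ⟨x, hx, ex⟩ ?_)
    rw [eq_inv_of_mul_eq_one_left h']
    exact inv_mem ⟨_, Facts.z2_mem, hZ2.symm⟩
  obtain ⟨h, hh, he⟩ := M.fus _ (mul_mem (Facts.fac1_le hx) (Facts.fac2_le Facts.z2_mem)) hsq
    (fun e => hn ((M.ker _).2 (Or.inl e))) (fun e => hn ((M.ker _).2 (Or.inr e)))
  refine isConj_iff.2 ⟨⟨h, hh⟩, (P.conj_factor ⟨x, hx, ex⟩ ⟨_, Facts.z2_mem, hZ2.symm⟩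
    ⟨_, Facts.z1_mem, hZ1.symm⟩ ⟨_, Facts.z2_mem, hZ2.symm⟩ ?_).1⟩
  apply Subtype.ext
  simp only [Subgroup.coe_mul, Subgroup.coe_inv, hZ1, hZ2, M.μ_z1z2]
  rw [← he, map_mul, ex]

/-- The involutions of the second factor fuse. -/
theorem fuse2 (P : Pair T (M.S (Facts.fac1 k)) (M.S (Facts.fac2 k))) (Z2 : H)
    (hZ2 : (Z2 : J) = μ (Facts.z2 k)) {r : H} (hr : r ∈ M.S (Facts.fac2 k)) (hr2 : orderOf r = 2) :
    IsConj r Z2 := by
  obtain ⟨x, hx, ex⟩ := M.mem_S.1 hr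
  obtain ⟨Z1, hZ1⟩ := M.exists_elt (Facts.fac1_le Facts.z1_mem)
  have hr1 : r ≠ 1 := fun h => by rw [h, orderOf_one] at hr2; norm_num at hr2
  have hxne : μ x ≠ 1 := fun h => hr1 (Subtype.ext (ex.symm.trans h))
  have hx2 : x * x = zE k := by
    refine ((M.ker _).1 ?_).resolve_left (M.lift_ne (Or.inr hx) hxne)
    rw [map_mul, ex, ← Subgroup.coe_mul, ← pow_two, ← hr2, pow_orderOf_eq_one, Subgroup.coe_one]
  have hsq : Facts.z1 k * x * (Facts.z1 k * x) = 1 := by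
    calc Facts.z1 k * x * (Facts.z1 k * x) = Facts.z1 k * (x * Facts.z1 k) * x := by group
      _ = Facts.z1 k * (Facts.z1 k * x) * x := by rw [Facts.commute_fac Facts.z1_mem hx]
      _ = Facts.z1 k * Facts.z1 k * (x * x) := by group
      _ = 1 := by rw [hx2, Facts.z1_sq, zE_sq]
  have hn : μ (Facts.z1 k * x) ≠ 1 := by
    rw [map_mul, ex, ← hZ1, ← Subgroup.coe_mul]
    intro h
    have h' : Z1 * r = 1 := Subtype.ext h
    refine hr1 (M.disjoint ?_ ⟨x, hx, ex⟩)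
    rw [eq_inv_of_mul_eq_one_right h']
    exact inv_mem ⟨_, Facts.z1_mem, hZ1.symm⟩
  obtain ⟨h, hh, he⟩ := M.fus _ (mul_mem (Facts.fac1_le Facts.z1_mem) (Facts.fac2_le hx)) hsq
    (fun e => hn ((M.ker _).2 (Or.inl e))) (fun e => hn ((M.ker _).2 (Or.inr e)))
  refine isConj_iff.2 ⟨⟨h, hh⟩, (P.conj_factor ⟨_, Facts.z1_mem, hZ1.symm⟩ ⟨x, hx, ex⟩
    ⟨_, Facts.z1_mem, hZ1.symm⟩ ⟨_, Facts.z2_mem, hZ2.symm⟩ ?_).2⟩
  apply Subtype.ext
  simp only [Subgroup.coe_mul, Subgroup.coe_inv, hZ1, hZ2, M.μ_z1z2]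
  rw [← he, map_mul, ex]

/-- No subgroup of index two. -/
theorem index_ne_two (N : Subgroup H) (hN : N.Normal) : N.index ≠ 2 := by
  intro h2
  have : Fact (Nat.Prime 2) := ⟨Nat.prime_two⟩
  obtain ⟨E, hE⟩ := M.exists_elt M.eE_even
  -- the five involutions are congruent to `E`
  have key : ∀ w ∈ Facts.even k, w * w = 1 → w ≠ 1 → w ≠ zE k → ∀ W : H, (W : J) = μ w → (W ∈ N ↔ E ∈ N) := by
    intro w hw hw2 hw1 hwz W hW
    obtain ⟨h, hh, he⟩ := M.fus w hw hw2 hw1 hwz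
    have e : (⟨h, hh⟩ : H) * W * ⟨h, hh⟩⁻¹ = E := Subtype.ext (by
      simp only [Subgroup.coe_mul, Subgroup.coe_inv, hW, hE, he])
    refine ⟨fun hmem => e ▸ hN.conj_mem _ hmem _, fun hmem => ?_⟩
    rw [show W = (⟨h, hh⟩ : H)⁻¹ * E * ⟨h, hh⟩⁻¹⁻¹ by rw [← e]; group]
    exact hN.conj_mem _ hmem _
  have hu : uE k ∈ Facts.even k := Facts.mem_even.2 (by simp [uE])
  have hv : vE k ∈ Facts.even k := Facts.mem_even.2 (by simp [vE])
  have h0 : w0 k ∈ Facts.even k := Facts.mem_even.2 (by simp [w0])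
  have h1 : w1 k ∈ Facts.even k := Facts.mem_even.2 (by simp [w1])
  obtain ⟨U, hU⟩ := M.exists_elt hu
  obtain ⟨V, hV⟩ := M.exists_elt hv
  obtain ⟨W, hW⟩ := M.exists_elt h0
  have ku := key _ hu (by ext <;> simp [uE, act1, act2, one_def]) (ne_one_of_i rfl) (by simp [uE, zE]) U hU
  have kv := key _ hv (by ext <;> simp [vE, act1, act2, one_def]) (ne_one_of_j rfl) (by simp [vE, zE]) V hV
  have k0 := key _ h0 (by ext <;> simp [w0, act1, act2, one_def]) (ne_one_of_i rfl) (by simp [w0, zE]) W hW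
  have hEN : E ∈ N := by
    by_contra hE'
    have h3 : U * V ∈ N := (Subgroup.mul_mem_iff_of_index_two h2).2 (iff_of_false (fun h => hE' (ku.1 h)) fun h => hE' (kv.1 h))
    refine hE' (k0.1 ?_)
    rwa [show W = U * V from Subtype.ext (by
      rw [Subgroup.coe_mul, hU, hV, hW, ← map_mul]
      congr 1; ext <;> simp [uE, vE, w0, act1, act2])]
  have hTN : (T : Subgroup H) ≤ N := by
    intro t ht
    obtain ⟨x, hx, ex⟩ := (M.range t).1 ht
    have hle : Facts.even k ≤ (N.map H.subtype).comap μ := by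
      have : ∀ w ∈ Facts.even k, w * w = 1 → w ≠ 1 → w ≠ zE k → w ∈ (N.map H.subtype).comap μ := by
        intro w hw a b c
        obtain ⟨W', hW'⟩ := M.exists_elt hw
        exact ⟨W', (key w hw a b c W' hW').2 hEN, hW'⟩
      refine Facts.even_le (this _ hu ?_ ?_ ?_) (this _ hv ?_ ?_ ?_) (this _ h0 ?_ ?_ ?_) (this _ h1 ?_ ?_ ?_)
        (this _ Facts.w5_mem Facts.w5_sq (ne_one_of_i rfl) (by simp [Facts.w5, zE]))
      all_goals first
        | exact ne_one_of_i rfl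
        | exact ne_one_of_j rfl
        | (simp [uE, vE, w0, w1, zE]; done)
        | (ext <;> simp [uE, vE, w0, w1, act1, act2, one_def]; done)
    obtain ⟨t', ht', e⟩ := hle hx
    rwa [show t = t' from Subtype.ext (ex.symm.trans e.symm)]
  have := index_dvd_of_le hTN
  rw [h2] at this
  exact T.not_dvd_index this

/-- Strongly closed factors for `k ≥ 2`. -/
theorem pair_big {ε : ℕ} (hk : k = 2 ^ ε) (hk2 : 2 ≤ k) : Pair T (M.S (Facts.fac1 k)) (M.S (Facts.fac2 k)) := by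
  classical
  have : Fact (Nat.Prime 2) := ⟨Nat.prime_two⟩
  obtain ⟨e1⟩ := M.dihedral1 hk
  obtain ⟨e2⟩ := M.dihedral2 hk
  have P0 := M.prod
  set S1 := M.S (Facts.fac1 k) with hS1
  set S2 := M.S (Facts.fac2 k) with hS2
  have hnc : ¬ IsMulCommutative (T : Subgroup H) := fun h => by
    have h' : ∀ x y : DihedralGroup (2 * k), x * y = y * x := fun x y => e1.symm.injective (by
      rw [map_mul, map_mul]
      exact Subtype.ext (congrArg (fun t : (T : Subgroup H) => (t : H))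
        (h.is_comm.comm ⟨_, P0.1 (e1.symm x).2⟩ ⟨_, P0.1 (e1.symm y).2⟩) : _))
    have h1 := h' (DihedralGroup.r 1) (DihedralGroup.sr 0)
    simp only [DihedralGroup.r_mul_sr, DihedralGroup.sr_mul_r, DihedralGroup.sr.injEq, zero_sub, zero_add] at h1
    have h2 : ((2 : ℕ) : ZMod (2 * k)) = 0 := by push_cast; linear_combination -h1
    have := Nat.le_of_dvd two_pos ((ZMod.natCast_eq_zero_iff _ _).1 h2)
    omega
  obtain ⟨D1, D2, hD, ⟨m1, hm1, ⟨f1⟩⟩, ⟨m2, hm2, ⟨f2⟩⟩, hc1, hc2⟩ :=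
    ProductFusion.DD.hasProductFusion (fun N hN => M.index_ne_two N hN) hnc S1 S2 P0
      ⟨2 * k, by omega, ⟨e1⟩⟩ ⟨2 * k, by omega, ⟨e2⟩⟩
  have P : Pair T D1 D2 := ⟨M.core, hD, hc1, hc2⟩
  obtain ⟨Z1, hZ1⟩ := M.exists_elt (Facts.fac1_le Facts.z1_mem)
  obtain ⟨Z2, hZ2⟩ := M.exists_elt (Facts.fac2_le Facts.z2_mem)
  have hZ1S : Z1 ∈ S1 := ⟨_, Facts.z1_mem, hZ1.symm⟩
  have hZ2S : Z2 ∈ S2 := ⟨_, Facts.z2_mem, hZ2.symm⟩
  -- involutions of a strongly closed dihedral factor lie in the factors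
  have hinv : ∀ D D' : Subgroup H, Pair T D D' → D' ≠ ⊥ → ∀ s ∈ D, orderOf s = 2 → s ∈ S1 ∨ s ∈ S2 := by
    intro D D' Q hD' s hs hs2
    obtain ⟨x, hx, ex⟩ := (M.range s).1 (Q.prod.1 hs)
    have hs1 : s ≠ 1 := fun h => by rw [h, orderOf_one] at hs2; norm_num at hs2
    refine M.mem_or hx ex (by rw [← pow_two, ← hs2, pow_orderOf_eq_one]) fun hx2 => hD' ?_
    have hxne : μ x ≠ 1 := fun h => hs1 (Subtype.ext (ex.symm.trans h))
    obtain ⟨g, hg, hge⟩ := M.fus x hx hx2 (fun e => hxne ((M.ker _).2 (Or.inl e))) (fun e => hxne ((M.ker _).2 (Or.inr e)))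
    obtain ⟨E, hE⟩ := M.exists_elt M.eE_even
    have hEe : (⟨g, hg⟩ : H) * s * ⟨g, hg⟩⁻¹ = E := Subtype.ext (by
      simp only [Subgroup.coe_mul, Subgroup.coe_inv, ← ex, hge, hE])
    have hED : E ∈ D := hEe ▸ Q.cl₁.2 s hs _ (hEe.symm ▸ (M.range E).2 ⟨_, M.eE_even, hE.symm⟩)
    have hTD : (T : Subgroup H) ≤ D := by
      intro t ht
      obtain ⟨y, hy, ey⟩ := (M.range t).1 ht
      have key : ∀ w ∈ Facts.even k, w * w = 1 → w ≠ 1 → w ≠ zE k → w ∈ (D.map H.subtype).comap μ := by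
        intro w hw a b c
        obtain ⟨W, hW⟩ := M.exists_elt hw
        obtain ⟨h, hh, he⟩ := M.fus w hw a b c
        have e : (⟨h, hh⟩ : H)⁻¹ * E * ⟨h, hh⟩⁻¹⁻¹ = W := Subtype.ext (by
          simp only [Subgroup.coe_mul, Subgroup.coe_inv, hE, ← he, hW]; group)
        exact ⟨W, e ▸ Q.cl₁.2 E hED _ (e.symm ▸ (M.range W).2 ⟨w, hw, hW.symm⟩), hW⟩
      have hle : Facts.even k ≤ (D.map H.subtype).comap μ := by
        refine Facts.even_le (key _ (Facts.mem_even.2 (by simp [uE])) ?_ ?_ ?_) (key _ (Facts.mem_even.2 (by simp [vE])) ?_ ?_ ?_)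
          (key _ (Facts.mem_even.2 (by simp [w0])) ?_ ?_ ?_) (key _ (Facts.mem_even.2 (by simp [w1])) ?_ ?_ ?_)
          (key _ Facts.w5_mem Facts.w5_sq (ne_one_of_i rfl) (by simp [Facts.w5, zE]))
        all_goals first
          | exact ne_one_of_i rfl
          | exact ne_one_of_j rfl
          | (simp [uE, vE, w0, w1, zE]; done)
          | (ext <;> simp [uE, vE, w0, w1, act1, act2, one_def]; done)
      obtain ⟨t', ht', e⟩ := hle hy
      rwa [show t = t' from Subtype.ext (ey.symm.trans e.symm)]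
    exact (eq_bot_iff_forall _).2 fun d hd => Q.eq_one_of_mem (hTD (Q.prod.2.1 hd)) hd
  have hne : ∀ {D : Subgroup H} {m : ℕ}, 2 ≤ m → (D ≃* DihedralGroup m) → D ≠ ⊥ := by
    intro D m hm f h
    have h1 := Nat.card_congr f.toEquiv
    rw [h, card_bot, DihedralGroup.nat_card] at h1
    omega
  -- each strongly closed factor contains a central involution of a model factor
  have hcen : ∀ D D' : Subgroup H, Pair T D D' → D ≠ ⊥ → D' ≠ ⊥ → Z1 ∈ D ∨ Z2 ∈ D := by
    intro D D' Q hD0 hD'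
    have hDn : ∀ t ∈ (T : Subgroup H), ∀ d ∈ D, t * d * t⁻¹ ∈ D := fun t ht d hd =>
      Q.cl₁.2 d hd t (mul_mem (mul_mem ht (Q.prod.1 hd)) (inv_mem ht))
    obtain ⟨a, ha, ha1⟩ : ∃ a ∈ D, a ≠ 1 := by
      by_contra h
      push Not at h
      exact hD0 ((eq_bot_iff_forall _).2 h)
    have hDn' : (D.subgroupOf (T : Subgroup H)).Normal := ⟨fun d hd t => hDn t t.2 d hd⟩
    have hnt : (D.subgroupOf (T : Subgroup H)) ≠ ⊥ := fun h => ha1 (by
      have : (⟨a, Q.prod.1 ha⟩ : (T : Subgroup H)) ∈ D.subgroupOf (T : Subgroup H) := ha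
      rw [h, mem_bot] at this
      exact congrArg Subtype.val this)
    have hTp : IsPGroup 2 (T : Subgroup H) := T.2
    have hmeet : D.subgroupOf (T : Subgroup H) ⊓ center (T : Subgroup H) ≠ ⊥ := by
      have : Group.IsNilpotent (T : Subgroup H) := hTp.isNilpotent
      exact Cores.inf_center_ne_bot hnt
    obtain ⟨j, hj⟩ := ((hTp.to_subgroup (D.subgroupOf (T : Subgroup H) ⊓ center (T : Subgroup H)))).exists_card_eq
    have hd2 : 2 ∣ Nat.card ↥(D.subgroupOf (T : Subgroup H) ⊓ center (T : Subgroup H)) := by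
      rw [hj]
      rcases Nat.eq_zero_or_pos j with rfl | hj0
      · exact absurd (eq_bot_of_card_eq _ hj) hmeet
      · exact dvd_pow_self 2 hj0.ne'
    obtain ⟨c, hc⟩ := exists_prime_orderOf_dvd_card' 2 hd2
    rw [← Subgroup.orderOf_coe, ← Subgroup.orderOf_coe] at hc
    obtain ⟨hcD, hcZ⟩ := mem_inf.1 c.2
    set s : H := ((c : (T : Subgroup H)) : H)
    have hs1 : s ≠ 1 := fun h => by rw [h, orderOf_one] at hc; norm_num at hc
    have hscen : ∀ t ∈ (T : Subgroup H), t * s = s * t := fun t ht =>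
      congrArg Subtype.val (mem_center_iff.1 hcZ ⟨t, ht⟩)
    have central : ∀ (F : Subgroup (Mdl (4 * k))), F ≤ Facts.even k → ∀ (e : M.S F ≃* DihedralGroup (2 * k))
        (z : Mdl (4 * k)) (Z : H), (Z : J) = μ z → z ∈ F → μ z ≠ 1 →
        (∀ x, z * x = x * z ∨ z * x = x * z * zE k) → s ∈ M.S F → s = Z := by
      intro F hFe e z Z hZ hzF hz1 hzc hsF
      have hZF : Z ∈ M.S F := ⟨z, hzF, hZ.symm⟩
      have h := dihedral_central (n := 2 * k) (by omega) (a := e ⟨s, hsF⟩) (b := e ⟨Z, hZF⟩)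
        (fun y => by
          obtain ⟨y, rfl⟩ := e.surjective y
          rw [← map_mul, ← map_mul]
          exact congrArg e (Subtype.ext (hscen y (M.S_le hFe y.2)).symm))
        (fun y => by
          obtain ⟨⟨y, hy⟩, rfl⟩ := e.surjective y
          rw [← map_mul, ← map_mul]
          obtain ⟨x, hx, ex⟩ := hy
          refine congrArg e (Subtype.ext (Subtype.ext ?_))
          show (Z : J) * y = y * Z
          rw [hZ, ← show μ x = (y : J) from ex, ← map_mul, ← map_mul]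
          rcases hzc x with h | h <;> rw [h]
          rw [map_mul, M.μz, mul_one])
        (fun h => hs1 (congrArg Subtype.val ((MulEquiv.map_eq_one_iff e).1 h)))
        (fun h => hz1 (by
          have h1 : Z = 1 := congrArg Subtype.val ((MulEquiv.map_eq_one_iff e).1 h)
          rw [← hZ, h1, Subgroup.coe_one]))
      exact congrArg Subtype.val (e.injective h)
    rcases hinv D D' Q hD' s hcD hc with h | h
    · exact Or.inl (central _ Facts.fac1_le e1 _ Z1 hZ1 Facts.z1_mem M.μz1_ne Facts.z1_central h ▸ hcD)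
    · exact Or.inr (central _ Facts.fac2_le e2 _ Z2 hZ2 Facts.z2_mem M.μz2_ne (fun x => Facts.z2_central) h ▸ hcD)
  have hone : ∀ {m : ℕ}, 2 ≤ m → ∀ (D D' : Subgroup H) (_ : Pair T D D') (_ : D ≃* DihedralGroup m),
      D' ≠ ⊥ → ∀ {Z : H} {A B : Subgroup H}, (∀ x, x ∈ A → x ∈ B → x = 1) → A ≤ (T : Subgroup H) →
      B ≤ (T : Subgroup H) → Z ∈ A → Z ≠ 1 → Z * Z = 1 → (∀ t ∈ (T : Subgroup H), Z * t = t * Z) →
      (∀ s ∈ D, orderOf s = 2 → s ∈ A ∨ s ∈ B) → Z ∈ D → D ≤ A := by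
    intro m hm D D' Q f hD' Z A B hAB hA hB hZA hZ hZZ hZc hor hZD d hd
    have hgen := mem_closure_involutions f ⟨d, hd⟩
    have hle : (closure {y : D | orderOf y = 2}).map D.subtype ≤ A := by
      rw [MonoidHom.map_closure, closure_le]
      rintro _ ⟨y, hy, rfl⟩
      show (y : H) ∈ A
      have hy' : orderOf (y : H) = 2 := by rw [Subgroup.orderOf_coe]; exact hy
      refine (hor y y.2 hy').resolve_right fun hyB => ?_
      have hyy : (y : H) * y = 1 := by rw [← pow_two, ← hy', pow_orderOf_eq_one]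
      have hsq : Z * y * (Z * y) = 1 := by
        calc Z * y * (Z * y) = Z * (y * Z) * y := by group
          _ = Z * (Z * y) * y := by rw [hZc _ (hB hyB)]
          _ = Z * Z * (y * y) := by group
          _ = 1 := by rw [hZZ, hyy, one_mul]
      have hne1 : Z * (y : H) ≠ 1 := fun h => by
        refine hZ (hAB Z hZA ?_)
        rw [eq_inv_of_mul_eq_one_left h]
        exact inv_mem hyB
      rcases hor _ (mul_mem hZD y.2) (orderOf_eq_prime (by rw [pow_two, hsq]) hne1) with h | h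
      · have := hAB _ ((Subgroup.mul_mem_cancel_left A hZA).1 h) hyB
        rw [this, orderOf_one] at hy'
        norm_num at hy'
      · exact hZ (hAB Z hZA ((Subgroup.mul_mem_cancel_right B hyB).1 h))
    exact hle ⟨_, hgen, rfl⟩
  have hcenT : ∀ (z : Mdl (4 * k)) (Z : H), (Z : J) = μ z →
      (∀ x, z * x = x * z ∨ z * x = x * z * zE k) → ∀ t ∈ (T : Subgroup H), Z * t = t * Z := by
    intro z Z hZ hzc t ht
    obtain ⟨x, -, ex⟩ := (M.range t).1 ht
    apply Subtype.ext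
    rw [Subgroup.coe_mul, Subgroup.coe_mul, hZ, ← ex, ← map_mul, ← map_mul]
    rcases hzc x with h | h <;> rw [h]
    rw [map_mul, M.μz, mul_one]
  have hsqZ : ∀ (z : Mdl (4 * k)) (Z : H), (Z : J) = μ z → z * z = zE k → Z * Z = 1 := fun z Z hZ hz =>
    Subtype.ext (by rw [Subgroup.coe_mul, hZ, ← map_mul, hz, M.μz, Subgroup.coe_one])
  have hZ1ne : Z1 ≠ 1 := fun h => M.μz1_ne (by rw [← hZ1, h, Subgroup.coe_one])
  have hZ2ne : Z2 ≠ 1 := fun h => M.μz2_ne (by rw [← hZ2, h, Subgroup.coe_one])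
  have fin : ∀ A B : Subgroup H, ∀ {a b : ℕ}, 2 ≤ a → 2 ≤ b → Pair T A B → (A ≃* DihedralGroup a) →
      (B ≃* DihedralGroup b) → Z1 ∈ A → Pair T S1 S2 := by
    intro A B a b ha hb Q fA fB h1
    have hA0 := hne ha fA
    have hB0 := hne hb fB
    have h2 : Z2 ∈ B := (hcen B A Q.symm hB0 hA0).resolve_left fun h => hZ1ne (Q.eq_one_of_mem h1 h)
    have hA : A ≤ S1 := hone ha A B Q fA hB0 (fun x hx hy => M.disjoint hx hy) P0.1 P0.2.1 hZ1S hZ1ne
      (hsqZ _ _ hZ1 Facts.z1_sq) (hcenT _ _ hZ1 Facts.z1_central) (hinv A B Q hB0) h1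
    have hB : B ≤ S2 := hone hb B A Q.symm fB hA0 (fun x hx hy => M.disjoint hy hx) P0.2.1 P0.1 hZ2S hZ2ne
      (hsqZ _ _ hZ2 Facts.z2_sq) (hcenT _ _ hZ2 fun x => Facts.z2_central)
      (fun s hs hs2 => (hinv B A Q.symm hA0 s hs hs2).symm) h2
    have eA : A = S1 := le_antisymm hA fun x hx => by
      obtain ⟨p, hp, q, hq, rfl⟩ := Q.decomp (P0.1 hx)
      rw [M.disjoint ((Subgroup.mul_mem_cancel_left _ (hA hp)).1 hx) (hB hq), mul_one]
      exact hp
    have eB : B = S2 := le_antisymm hB fun x hx => by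
      obtain ⟨p, hp, q, hq, rfl⟩ := Q.decomp (P0.2.1 hx)
      rw [M.disjoint (hA hp) ((Subgroup.mul_mem_cancel_right _ (hB hq)).1 hx), one_mul]
      exact hq
    rw [eA, eB] at Q
    exact Q
  rcases hcen D1 D2 P (hne hm1 f1) (hne hm2 f2) with h | h
  · exact fin D1 D2 hm1 hm2 P f1 f2 h
  · refine fin D2 D1 hm2 hm1 P.symm f2 f1 ((hcen D2 D1 P.symm (hne hm2 f2) (hne hm1 f1)).resolve_right fun h' => ?_)
    exact hZ2ne (P.eq_one_of_mem h h')

end Setting

end Cfsg.Agent.G2Cent
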