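import Cfsg.Agent.GStructB.ProductFusion.Dihedral
import Cfsg.Agent.Lib.Transfer.Fusion
import Cfsg.Agent.Lib.Transfer.NormalPComplement
import Cfsg.Agent.Lib.Cores.Basic

/-!
A Sylow 2-subgroup that is the product of two strongly closed factors, in a group without odd core:
the normal closures of the factors meet it in the factors and meet each other trivially.
-/

set_option autoImplicit false
set_option linter.unusedSectionVars false

open Subgroup
open scoped commutatorElement

namespace Cfsg.Agent.G2Cent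

variable {H : Type*} [Group H] [Finite H]

/-- The situation. -/
structure Pair (T : Sylow 2 H) (S₁ S₂ : Subgroup H) : Prop where
  core : Cfsg.oddCore H = ⊥
  prod : Cfsg.IsInternalDirectProduct S₁ S₂ (T : Subgroup H)
  cl₁ : Cfsg.IsStronglyClosed S₁ (T : Subgroup H)
  cl₂ : Cfsg.IsStronglyClosed S₂ (T : Subgroup H)

namespace Pair

variable {T : Sylow 2 H} {S₁ S₂ : Subgroup H} (P : Pair T S₁ S₂)
include P

theorem symm : Pair T S₂ S₁ := by
  obtain ⟨h1, h2, hc, hd, hT⟩ := P.prod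
  exact ⟨P.core, ⟨h2, h1, fun a ha b hb => (hc b hb a ha).symm, by rwa [inf_comm],
    by rwa [sup_comm]⟩, P.cl₂, P.cl₁⟩

theorem comm {x y : H} (hx : x ∈ normalClosure (S₁ : Set H)) (hy : y ∈ normalClosure (S₂ : Set H)) :
    x * y = y * x :=
  commutatorElement_eq_one_iff_mul_comm.1 (mem_bot.1
    ((ProductFusion.commutator_normalClosure_eq_bot P.core T S₁ S₂ P.cl₁ P.cl₂ P.prod.2.2.1
      P.prod.2.2.2.1).le (commutator_mem_commutator hx hy)))

theorem decomp {t : H} (ht : t ∈ (T : Subgroup H)) : ∃ a ∈ S₁, ∃ b ∈ S₂, t = a * b :=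
  ProductFusion.mem_sup_of_commute P.prod.2.2.1 (P.prod.2.2.2.2.ge ht)

theorem eq_one_of_mem {x : H} (h1 : x ∈ S₁) (h2 : x ∈ S₂) : x = 1 :=
  mem_bot.1 (P.prod.2.2.2.1.le ⟨h1, h2⟩)

/-- The normal closure of a factor meets the Sylow subgroup in that factor. -/
theorem inf_closure : (T : Subgroup H) ⊓ normalClosure (S₁ : Set H) = S₁ := by
  have : Fact (Nat.Prime 2) := ⟨Nat.prime_two⟩
  set K := normalClosure (S₁ : Set H) with hK
  have hS₁K : S₁ ≤ K := fun x hx => subset_normalClosure hx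
  have hS₂L : ∀ x ∈ S₂, x ∈ normalClosure (S₂ : Set H) := fun x hx => subset_normalClosure hx
  refine le_antisymm (fun t ht => ?_) (le_inf P.prod.1 hS₁K)
  obtain ⟨htT, htK⟩ := mem_inf.1 ht
  obtain ⟨s, hs, a, ha, rfl⟩ := P.decomp htT
  have haK : a ∈ K := (Subgroup.mul_mem_cancel_left K (hS₁K hs)).1 htK
  suffices h : a ∈ S₁ from mul_mem hs h
  -- a Sylow subgroup of the closure
  have hidx : ¬ 2 ∣ ((T : Subgroup H).subgroupOf K).index :=
    (ProductFusion.odd_relIndex_normal T K).not_two_dvd_nat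
  set R : Sylow 2 K := IsPGroup.toSylow (T.2.comap_of_injective K.subtype K.subtype_injective)
    hidx with hR
  set F : Subgroup K := S₁.subgroupOf K with hF
  have hfoc : commutator K ⊓ (R : Subgroup K) ≤ F := by
    refine Transfer.Fusion.focal_le_of_fusion R fun x hx g hgx => ⟨g, rfl, ?_⟩
    obtain ⟨b, hb, c, hc, hbc⟩ := P.decomp (show (x : H) ∈ (T : Subgroup H) from hx)
    have hgxT : (g : H) * x * (g : H)⁻¹ ∈ (T : Subgroup H) := hgx
    have hgc : (g : H) * c * (g : H)⁻¹ = c := by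
      rw [P.comm g.2 (hS₂L c hc), mul_inv_cancel_right]
    have e1 : (g : H) * x * (g : H)⁻¹ = (g : H) * b * (g : H)⁻¹ * c := by
      rw [hbc, show (g : H) * (b * c) * (g : H)⁻¹ = (g : H) * b * (g : H)⁻¹ * ((g : H) * c * (g : H)⁻¹) by group, hgc]
    have hgb : (g : H) * b * (g : H)⁻¹ ∈ S₁ := P.cl₁.2 b hb g (by
      rw [e1] at hgxT
      exact (Subgroup.mul_mem_cancel_right _ (P.prod.2.1 hc)).1 hgxT)
    show ((⁅x, g⁆ : K) : H) ∈ S₁
    have e2 : ((⁅x, g⁆ : K) : H) = b * c * ((g : H) * b * (g : H)⁻¹ * c)⁻¹ := by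
      rw [← e1, ← hbc]
      simp [commutatorElement_def, mul_assoc]
    rw [e2, show b * c * ((g : H) * b * (g : H)⁻¹ * c)⁻¹ = b * ((g : H) * b * (g : H)⁻¹)⁻¹ by group]
    exact mul_mem hb (inv_mem hgb)
  -- the closure is its derived subgroup times the factor
  set W : Subgroup H := ⁅K, K⁆ with hW
  have hWK : W ≤ K := Subgroup.commutator_le.2 fun a ha b hb =>
    mul_mem (mul_mem (mul_mem ha hb) (inv_mem ha)) (inv_mem hb)
  have hgen : ∀ x ∈ K, ∃ s' ∈ S₁, s'⁻¹ * x ∈ W := by
    have hle : K ≤ W ⊔ S₁ := by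
      rw [hK, normalClosure, closure_le]
      intro y hy
      obtain ⟨x, hx, hconj⟩ := Group.mem_conjugatesOfSet_iff.1 hy
      obtain ⟨h, rfl⟩ := isConj_iff.1 hconj
      have hxK : h * x * h⁻¹ ∈ K := Subgroup.Normal.conj_mem inferInstance x (hS₁K hx) h
      have hp : IsPGroup 2 (zpowers (h * x * h⁻¹)) := by
        obtain ⟨j, hj⟩ := T.2 ⟨x, P.prod.1 hx⟩
        refine ProductFusion.Pair.isPGroup_zpowers (k := j) ?_
        rw [conj_pow, show x ^ 2 ^ j = 1 from congrArg Subtype.val hj, mul_one, mul_inv_cancel]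
      obtain ⟨R', hR'⟩ :=
        (hp.comap_of_injective K.subtype K.subtype_injective).exists_le_sylow
      obtain ⟨n, hn⟩ := MulAction.exists_smul_eq K R' R
      have hm : n * ⟨_, hxK⟩ * n⁻¹ ∈ (R : Subgroup K) := by
        rw [← hn, Sylow.coe_subgroup_smul]
        exact ⟨_, hR' (show (⟨_, hxK⟩ : K) ∈ (zpowers (h * x * h⁻¹)).subgroupOf K from
          mem_zpowers _), rfl⟩
      have hm' : (n : H) * (h * x * h⁻¹) * (n : H)⁻¹ ∈ (T : Subgroup H) := hm
      have h1 : (n : H) * (h * x * h⁻¹) * (n : H)⁻¹ ∈ S₁ := by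
        rw [show (n : H) * (h * x * h⁻¹) * (n : H)⁻¹ = (n * h) * x * (n * h : H)⁻¹ by group] at hm' ⊢
        exact P.cl₁.2 x hx _ hm'
      show h * x * h⁻¹ ∈ W ⊔ S₁
      rw [show h * x * h⁻¹ = ⁅h * x * h⁻¹, (n : H)⁆ * ((n : H) * (h * x * h⁻¹) * (n : H)⁻¹) by
        rw [commutatorElement_def]; group]
      exact mul_mem (mem_sup_left (commutator_mem_commutator hxK n.2)) (mem_sup_right h1)
    intro x hx
    have hx' : x ∈ ((S₁ ⊔ W : Subgroup H) : Set H) := by rw [sup_comm]; exact hle hx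
    rw [Subgroup.mul_normal] at hx'
    obtain ⟨s', hs', w, hw, rfl⟩ := hx'
    exact ⟨s', hs', by rw [inv_mul_cancel_left]; exact hw⟩
  obtain ⟨s', hs', hd⟩ := hgen a haK
  have hdT : s'⁻¹ * a ∈ (T : Subgroup H) :=
    mul_mem (inv_mem (P.prod.1 hs')) (P.prod.2.1 ha)
  have hdc : (⟨_, hWK hd⟩ : K) ∈ commutator K := by
    have : W = (commutator K).map K.subtype := by
      rw [_root_.commutator_def, Subgroup.map_commutator, ← MonoidHom.range_eq_map,
        Subgroup.range_subtype]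
    rw [this] at hd
    obtain ⟨y, hy, hye⟩ := hd
    rwa [show (⟨_, hWK hd⟩ : K) = y from Subtype.ext hye.symm]
  have h1 : s'⁻¹ * a ∈ S₁ := hfoc (mem_inf.2 ⟨hdc, (show (⟨_, hWK hd⟩ : K) ∈ (R : Subgroup K) from hdT)⟩)
  exact (Subgroup.mul_mem_cancel_left _ (inv_mem hs')).1 h1

/-- A normal subgroup meeting the Sylow subgroup trivially is trivial. -/
theorem normal_eq_bot {N : Subgroup H} [N.Normal] (h : (T : Subgroup H) ⊓ N = ⊥) : N = ⊥ := by
  have h1 := ProductFusion.odd_relIndex_normal T N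
  rw [← inf_relIndex_right, h, relIndex_bot_left] at h1
  exact le_bot_iff.1 (P.core ▸ Cores.le_oddCore h1)

/-- The two closures meet trivially. -/
theorem closure_inf : normalClosure (S₁ : Set H) ⊓ normalClosure (S₂ : Set H) = ⊥ := by
  refine P.normal_eq_bot (le_bot_iff.1 fun x hx => ?_)
  obtain ⟨hxT, hx1, hx2⟩ := hx
  exact mem_bot.2 (P.eq_one_of_mem (P.inf_closure.le ⟨hxT, hx1⟩) (P.symm.inf_closure.le ⟨hxT, hx2⟩))

/-- A conjugate of a product of factors in the product of factors is conjugated factorwise. -/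
theorem conj_factor {h a b r s : H} (ha : a ∈ S₁) (hb : b ∈ S₂) (hr : r ∈ S₁) (hs : s ∈ S₂)
    (e : h * (a * b) * h⁻¹ = r * s) : h * a * h⁻¹ = r ∧ h * b * h⁻¹ = s := by
  have hA : h * a * h⁻¹ ∈ normalClosure (S₁ : Set H) :=
    Subgroup.Normal.conj_mem inferInstance a (subset_normalClosure ha) h
  have hB : h * b * h⁻¹ ∈ normalClosure (S₂ : Set H) :=
    Subgroup.Normal.conj_mem inferInstance b (subset_normalClosure hb) h
  have e1 : r⁻¹ * (h * a * h⁻¹) = s * (h * b * h⁻¹)⁻¹ := by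
    rw [eq_mul_inv_iff_mul_eq, mul_assoc, show h * a * h⁻¹ * (h * b * h⁻¹) = h * (a * b) * h⁻¹ by group,
      e, inv_mul_cancel_left]
  have hrK : r ∈ normalClosure (S₁ : Set H) := subset_normalClosure hr
  have hsL : s ∈ normalClosure (S₂ : Set H) := subset_normalClosure hs
  have h1 : r⁻¹ * (h * a * h⁻¹) = 1 := mem_bot.1 (P.closure_inf.le
    (mem_inf.2 ⟨mul_mem (inv_mem hrK) hA, by
      rw [e1]; exact mul_mem hsL (inv_mem hB)⟩))
  have h2 := e1
  rw [h1] at h2
  exact ⟨(inv_mul_eq_one.1 h1).symm, (mul_inv_eq_one.1 h2.symm).symm⟩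

/-- What centralizes both closures lies in the Sylow subgroup. -/
theorem centralizer_le :
    centralizer (normalClosure (S₁ : Set H) : Set H) ⊓ centralizer (normalClosure (S₂ : Set H) : Set H) ≤
      (T : Subgroup H) := by
  have : Fact (Nat.Prime 2) := ⟨Nat.prime_two⟩
  set N := centralizer (normalClosure (S₁ : Set H) : Set H) ⊓
    centralizer (normalClosure (S₂ : Set H) : Set H) with hN
  have : N.Normal := inferInstance
  set R : Sylow 2 N := IsPGroup.toSylow (T.2.comap_of_injective N.subtype N.subtype_injective)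
    (ProductFusion.odd_relIndex_normal T N).not_two_dvd_nat with hR
  have hc : normalizer ((R : Subgroup N) : Set N) ≤ centralizer ((R : Subgroup N) : Set N) := by
    intro n _
    rw [mem_centralizer_iff]
    intro q hq
    obtain ⟨a, ha, b, hb, hab⟩ := P.decomp (show (q : H) ∈ (T : Subgroup H) from hq)
    have h1 := mem_centralizer_iff.1 n.2.1 a (subset_normalClosure ha)
    have h2 := mem_centralizer_iff.1 n.2.2 b (subset_normalClosure hb)
    apply Subtype.ext
    show (q : H) * n = n * q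
    rw [hab, mul_assoc, h2, ← mul_assoc, h1, mul_assoc]
  obtain ⟨R', M, hMn, hM⟩ :=
    Transfer.NormalPComplement.hasNormalPComplement_of_normalizer_le_centralizer R hc
  have hMo : Odd (Nat.card M) := by
    rw [← hM.index_eq_card]
    exact Nat.not_even_iff_odd.1 fun h => R'.not_dvd_index h.two_dvd
  have hM1 : M ≤ Cfsg.oddCore N := Cores.le_oddCore hMo
  have hON : Cfsg.oddCore N = ⊥ := by
    rw [← Subgroup.map_eq_bot_iff_of_injective _ N.subtype_injective, eq_bot_iff, ← P.core]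
    exact Cores.map_pPrimeCore_subtype_le 2 N
  rw [hON, le_bot_iff] at hM1
  have hp : IsPGroup 2 N := by
    have h1 := hM.card_mul_card
    rw [hM1, card_bot, one_mul] at h1
    obtain ⟨j, hj⟩ := R'.isPGroup'.exists_card_eq
    exact IsPGroup.of_card (h1.symm.trans hj)
  exact IsPGroup.le_sylow_of_normal hp T

end Pair

end Cfsg.Agent.G2Cent
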