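import Cfsg.Agent.GStructB.ProductFusion.Main
import Cfsg.Agent.Lib.Transfer.Fusion
import Cfsg.Agent.GroupStructure3.PronormalOvergroup

/-!
# The normal subgroups of two strongly closed commuting factors of a Sylow 2-subgroup

If `T = F₁ × F₂` with both factors strongly closed and `O(J) = 1`, the normal closures of the factors commute,
meet trivially and meet `T` in the factors.
-/

set_option autoImplicit false
set_option linter.style.haveILetI false

namespace Cfsg.Agent.G2Cent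

open Subgroup
open scoped commutatorElement

universe u

variable {J : Type u} [Group J] [Finite J]

/-- The normal closure of a strongly closed factor meets the Sylow subgroup in the factor. -/
theorem normalClosure_inf_sylow (T : Sylow 2 J) {F₁ F₂ : Subgroup J}
    (h₁ : Cfsg.IsStronglyClosed F₁ (T : Subgroup J)) (hc : ∀ a ∈ F₁, ∀ b ∈ F₂, a * b = b * a)
    (hsup : F₁ ⊔ F₂ = (T : Subgroup J))
    (hKL : ⁅normalClosure (F₁ : Set J), normalClosure (F₂ : Set J)⁆ = ⊥) :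
    normalClosure (F₁ : Set J) ⊓ (T : Subgroup J) = F₁ := by
  haveI : Fact (Nat.Prime 2) := ⟨Nat.prime_two⟩
  set K := normalClosure (F₁ : Set J) with hK
  have hFK : F₁ ≤ K := fun x hx => subset_normalClosure hx
  refine le_antisymm ?_ (le_inf hFK h₁.1)
  obtain ⟨TK, hTK⟩ := GroupStructure3.PronormalOvergroup.sylow_inf_normal T K
  have hTK' : (TK : Subgroup ↥K) = (T : Subgroup J).subgroupOf K := by
    rw [← Subgroup.comap_map_eq_self_of_injective K.subtype_injective (TK : Subgroup ↥K), hTK]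
    ext x
    simp [mem_subgroupOf]
  -- elements of the Sylow subgroup of `K`
  have hdec : ∀ x ∈ (TK : Subgroup ↥K), ∃ f : ↥K, (f : J) ∈ F₁ ∧ ∀ g : ↥K, (f⁻¹ * x) * g = g * (f⁻¹ * x) := by
    intro x hx
    obtain ⟨f, hf, b, hb, e⟩ : ∃ f ∈ F₁, ∃ b ∈ F₂, f * b = (x : J) := by
      have hxT : (x : J) ∈ F₁ ⊔ F₂ := by rw [hsup]; exact mem_subgroupOf.1 (hTK' ▸ hx)
      rw [← SetLike.mem_coe, coe_mul_of_left_le_normalizer_right F₁ F₂ (fun a ha =>
        centralizer_le_normalizer _ (mem_centralizer_iff.2 fun b hb => (hc a ha b hb).symm))] at hxT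
      obtain ⟨f, hf, b, hb, e⟩ := hxT
      exact ⟨f, hf, b, hb, e⟩
    refine ⟨⟨f, hFK hf⟩, hf, fun g => Subtype.ext ?_⟩
    show f⁻¹ * (x : J) * (g : J) = g * (f⁻¹ * (x : J))
    rw [← e, inv_mul_cancel_left]
    exact (commutatorElement_eq_one_iff_mul_comm.1 (mem_bot.1 (hKL ▸ commutator_mem_commutator g.2
      (subset_normalClosure hb)))).symm
  have hfoc : commutator ↥K ⊓ (TK : Subgroup ↥K) ≤ F₁.subgroupOf K := by
    refine Transfer.Fusion.focal_le_of_fusion TK fun x hx g hg => ⟨g, rfl, ?_⟩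
    obtain ⟨f, hf, hcen⟩ := hdec x hx
    set b : ↥K := f⁻¹ * x with hbdef
    have hx' : x = f * b := by rw [hbdef, mul_inv_cancel_left]
    have hbT : (b : J) ∈ (T : Subgroup J) := by
      rw [hbdef]
      exact mul_mem (inv_mem (h₁.1 hf)) (mem_subgroupOf.1 (hTK' ▸ hx))
    have e1 : g * x * g⁻¹ = g * f * g⁻¹ * b := by
      rw [hx', ← mul_assoc, mul_assoc (g * f), hcen g⁻¹, ← mul_assoc]
    have hgf : ((g * f * g⁻¹ : ↥K) : J) ∈ F₁ := by
      refine h₁.2 _ hf (g : J) ?_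
      have h : ((g * x * g⁻¹ : ↥K) : J) ∈ (T : Subgroup J) := by
        have h' : g * x * g⁻¹ ∈ (TK : Subgroup ↥K) := hg
        rwa [hTK', mem_subgroupOf] at h'
      rw [e1] at h
      simpa [mul_assoc] using mul_mem h (inv_mem hbT)
    have e2 : ⁅x, g⁆ = f * (g * f * g⁻¹)⁻¹ := by
      have e3 : ⁅x, g⁆ = x * (g * x * g⁻¹)⁻¹ := by rw [commutatorElement_def]; group
      rw [e3, e1, hx', mul_inv_rev, mul_assoc, mul_inv_cancel_left]
    rw [e2, mem_subgroupOf]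
    exact mul_mem hf (inv_mem hgf)
  set M := commutator ↥K ⊔ F₁.subgroupOf K with hM
  have hMn : M.Normal := Normal.of_commutator_le _ le_sup_left
  have hMT : ∀ m ∈ M, m ∈ (TK : Subgroup ↥K) → (m : J) ∈ F₁ := by
    intro m hm hmT
    obtain ⟨c, hc', f, hf, rfl⟩ : ∃ c ∈ commutator ↥K, ∃ f ∈ F₁.subgroupOf K, c * f = m := by
      rw [hM, ← SetLike.mem_coe, normal_mul] at hm
      exact hm
    have hfT : f ∈ (TK : Subgroup ↥K) := hTK' ▸ mem_subgroupOf.2 (h₁.1 hf)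
    have hcT : c ∈ (TK : Subgroup ↥K) := by simpa using mul_mem hmT (inv_mem hfT)
    exact mul_mem (hfoc ⟨hc', hcT⟩) hf
  have hall : K ≤ M.map K.subtype := by
    refine closure_le _ |>.2 ?_
    intro y hy
    obtain ⟨f, hf, hyf⟩ := Group.mem_conjugatesOfSet_iff.1 hy
    obtain ⟨g, rfl⟩ := isConj_iff.1 hyf
    have hyK : g * f * g⁻¹ ∈ K := normalClosure_normal.conj_mem _ (hFK hf) g
    have hp : IsPGroup 2 ↥(zpowers (⟨g * f * g⁻¹, hyK⟩ : ↥K)) := by
      obtain ⟨k, hk⟩ := (T.2 ⟨f, h₁.1 hf⟩)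
      obtain ⟨j, -, hj⟩ := (Nat.dvd_prime_pow Nat.prime_two).1 (orderOf_dvd_of_pow_eq_one
        (show f ^ 2 ^ k = 1 by simpa using congrArg Subtype.val hk))
      refine IsPGroup.of_card (n := j) ?_
      rw [Nat.card_zpowers, ← Subgroup.orderOf_coe]
      show orderOf (MulAut.conj g f) = 2 ^ j
      rw [MulEquiv.orderOf_eq, hj]
    obtain ⟨Q, hQ⟩ := hp.exists_le_sylow
    obtain ⟨k, hk⟩ := MulAction.exists_smul_eq ↥K Q TK
    have hkm : k * ⟨g * f * g⁻¹, hyK⟩ * k⁻¹ ∈ (TK : Subgroup ↥K) := by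
      rw [← hk]
      exact ⟨_, hQ (mem_zpowers _), rfl⟩
    have hF : ((k * ⟨g * f * g⁻¹, hyK⟩ * k⁻¹ : ↥K) : J) ∈ F₁ := by
      have h := mem_subgroupOf.1 (hTK' ▸ hkm)
      have e : ((k * ⟨g * f * g⁻¹, hyK⟩ * k⁻¹ : ↥K) : J) = (k : J) * g * f * ((k : J) * g)⁻¹ := by
        simp [mul_assoc]
      rw [e] at h ⊢
      exact h₁.2 f hf _ h
    refine ⟨⟨g * f * g⁻¹, hyK⟩, ?_, rfl⟩
    have h := hMn.conj_mem _ (le_sup_right (a := commutator ↥K) (mem_subgroupOf.2 hF)) k⁻¹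
    simpa [mul_assoc] using h
  rintro x ⟨hxK, hxT⟩
  obtain ⟨m, hm, rfl⟩ := hall hxK
  exact hMT m hm (hTK' ▸ mem_subgroupOf.2 hxT)

/-- The two normal closures. -/
theorem split (hO : Cfsg.oddCore J = ⊥) (T : Sylow 2 J) {F₁ F₂ : Subgroup J}
    (h₁ : Cfsg.IsStronglyClosed F₁ (T : Subgroup J)) (h₂ : Cfsg.IsStronglyClosed F₂ (T : Subgroup J))
    (hc : ∀ a ∈ F₁, ∀ b ∈ F₂, a * b = b * a) (hd : F₁ ⊓ F₂ = ⊥) (hsup : F₁ ⊔ F₂ = (T : Subgroup J)) :
    ⁅normalClosure (F₁ : Set J), normalClosure (F₂ : Set J)⁆ = ⊥ ∧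
      normalClosure (F₁ : Set J) ⊓ normalClosure (F₂ : Set J) = ⊥ ∧
      normalClosure (F₁ : Set J) ⊓ (T : Subgroup J) = F₁ ∧
      normalClosure (F₂ : Set J) ⊓ (T : Subgroup J) = F₂ := by
  haveI : Fact (Nat.Prime 2) := ⟨Nat.prime_two⟩
  have hKL := ProductFusion.commutator_normalClosure_eq_bot hO T F₁ F₂ h₁ h₂ hc hd
  have hK := normalClosure_inf_sylow T h₁ hc hsup hKL
  have hL := normalClosure_inf_sylow T h₂ (fun a ha b hb => (hc b hb a ha).symm)
    (sup_comm F₁ F₂ ▸ hsup) (by rw [commutator_comm, hKL])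
  refine ⟨hKL, ?_, hK, hL⟩
  set A := normalClosure (F₁ : Set J) ⊓ normalClosure (F₂ : Set J) with hA
  have hAT : A ⊓ (T : Subgroup J) = ⊥ := by
    rw [eq_bot_iff, ← hd, ← hK, ← hL]
    exact fun x hx => ⟨⟨hx.1.1, hx.2⟩, ⟨hx.1.2, hx.2⟩⟩
  haveI hAn : A.Normal := Subgroup.normal_inf_normal _ _
  have hodd : Odd (Nat.card A) := by
    refine Nat.not_even_iff_odd.1 fun he => ?_
    obtain ⟨a, ha⟩ := exists_prime_orderOf_dvd_card' (G := A) 2 (even_iff_two_dvd.1 he)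
    rw [← Subgroup.orderOf_coe] at ha
    obtain ⟨Q, hQ⟩ := (IsPGroup.of_card (n := 1) (by rw [Nat.card_zpowers, ha, pow_one]) :
      IsPGroup 2 ↥(zpowers (a : J))).exists_le_sylow
    obtain ⟨g, hg⟩ := MulAction.exists_smul_eq J Q T
    have hmem : g * a * g⁻¹ ∈ A ⊓ (T : Subgroup J) :=
      ⟨hAn.conj_mem _ a.2 g, by rw [← hg]; exact ⟨_, hQ (mem_zpowers _), rfl⟩⟩
    rw [hAT, mem_bot, conj_eq_one_iff] at hmem
    rw [hmem, orderOf_one] at ha
    omega
  exact le_bot_iff.1 (hO ▸ Cores.le_oddCore hodd)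

end Cfsg.Agent.G2Cent
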